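import Groth.Agent.TFCurv.K334.Def
import Groth.Agent.TFCurv.K334.SlopeSt

/-!
# Existence of stable bundles on curves of genus at least two (helper334)
-/

set_option autoImplicit false
universe u

open CategoryTheory CategoryTheory.Limits AlgebraicGeometry TopologicalSpace Opposite

namespace K334.Final

open Groth.Agent Groth.Agent.VarietyA.DegRank K707.Base K707.Deg K707.Slope K707.Semi

variable {k : Type u} [Field k] [IsAlgClosed k] {X : Scheme.{u}} [X.Over (Spec (CommRingCat.of k))]
  [IsIntegral X] [IsProper (X ↘ (Spec (CommRingCat.of k)))] [Smooth (X ↘ Spec (CommRingCat.of k))]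

/-- Stable bundles of every positive rank and every degree exist (language of `K707`). -/
theorem exists_stable (hdim : topologicalKrullDim X = 1) (hg : 2 ≤ Curv2.genus k X) (r : ℕ) (hr : 0 < r) (d : ℤ) :
    ∃ E : X.Modules, FlatMod.IsFinLocFreeOfRank r E ∧ dg k E = d ∧ St k E :=
  K334.AllRk.exists_stable hdim (by omega) (K334.Fam.def_holds hdim hg) r hr d

/-- Slope-stable bundles of every positive rank and every degree exist. -/
theorem exists_isSlopeStable (hdim : topologicalKrullDim X = 1) (hg : 2 ≤ Curv2.genus k X) (r : ℕ) (hr : 0 < r)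
    (d : ℤ) :
    ∃ E : X.Modules, FlatMod.IsFinLocFreeOfRank r E ∧ Curv2.deg k X E r = d ∧ ModFun.IsSlopeStable k X E r :=
  K334.SlopeSt.exists_isSlopeStable hdim (by omega) (K334.Fam.def_holds hdim hg) r hr d

end K334.Final
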