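import Groth.Agent.TFCurv.K334.Twist

/-!
# Stable modules of every rank and degree, from the deformation statement (helper334)

`Def k X`: two non-isomorphic stable modules `S`, `G` of the same slope have a "sum" `E` (of rank `rk S + rk G` and
degree `deg S + deg G`) which is stable (a deformation of `S ⊕ G`). `exists_stable`: the consequence that there are
stable modules of every rank and degree.
-/

set_option autoImplicit false
universe u

open CategoryTheory CategoryTheory.Limits AlgebraicGeometry TopologicalSpace Opposite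

namespace K334.AllRk

open Groth.Agent Groth.Agent.VarietyA.DegRank K707.Base K707.Deg K707.Slope K707.Semi K707.TensL

section

variable (k : Type u) [Field k] (X : Scheme.{u}) [X.Over (Spec (CommRingCat.of k))] [IsIntegral X]

/-- Two non-isomorphic stable modules of the same slope have a stable "sum". -/
def Def : Prop :=
  ∀ S G : X.Modules, FlatMod.IsFinLocFree S → FlatMod.IsFinLocFree G → St k S → St k G → 0 < rk S → 0 < rk G →
    dg k S * rk G = dg k G * rk S → ¬ Nonempty (S ≅ G) →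
    ∃ E : X.Modules, FlatMod.IsFinLocFree E ∧ rk E = rk S + rk G ∧ dg k E = dg k S + dg k G ∧ St k E

end

variable {k : Type u} [Field k] [IsAlgClosed k] {X : Scheme.{u}} [X.Over (Spec (CommRingCat.of k))]
  [IsIntegral X] [IsProper (X ↘ (Spec (CommRingCat.of k)))] [Smooth (X ↘ Spec (CommRingCat.of k))]

theorem euler_structure_nonpos (hdim : topologicalKrullDim X = 1) (hg : 1 ≤ Curv2.genus k X) :
    Curv2.euler k X (Coh.structureModule X) ≤ 0 := by
  have C : Crv k X := Crv.of_smooth hdim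
  have h0 := Groth.Agent.VarietyA.CurveFin.finrank_h0_structure k X
  have hg' : Curv2.genus k X = Module.finrank k (Coh.HH X (Coh.structureModule X) 1) := rfl
  rw [K705.Setup.euler_eq C, h0, ← hg']
  push_cast
  have : (1 : ℤ) ≤ Curv2.genus k X := by exact_mod_cast hg
  linarith

/-- Multiples. -/
theorem exists_multiple (hdim : topologicalKrullDim X = 1) (hg : 1 ≤ Curv2.genus k X) (hD : Def k X)
    {E₀ : X.Modules} (hE₀ : FlatMod.IsFinLocFree E₀) (h0 : 0 < rk E₀) (hs : St k E₀) (n : ℕ) :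
    ∃ E : X.Modules, FlatMod.IsFinLocFree E ∧ rk E = (n + 1) * rk E₀ ∧ dg k E = (n + 1) * dg k E₀ ∧ St k E := by
  induction n with
  | zero => exact ⟨E₀, hE₀, by simp, by simp, hs⟩
  | succ n ih =>
    obtain ⟨S, hS, r1, d1, s1⟩ := ih
    obtain ⟨G, hG, r2, d2, s2, hne⟩ : ∃ G : X.Modules, FlatMod.IsFinLocFree G ∧ rk G = rk E₀ ∧
        dg k G = dg k E₀ ∧ St k G ∧ ¬ Nonempty (S ≅ G) := by
      by_cases h : Nonempty (S ≅ E₀)
      · obtain ⟨F, hF, a, b, c, hn⟩ := K334.Twist.exists_other hdim hg hE₀ h0 hs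
        refine ⟨F, hF, a, b, c, ?_⟩
        rintro ⟨e⟩
        obtain ⟨e'⟩ := h
        exact hn ⟨e.symm ≪≫ e'⟩
      · exact ⟨E₀, hE₀, rfl, rfl, hs, h⟩
    obtain ⟨E, hE, r3, d3, s3⟩ := hD S G hS hG s1 s2 (by rw [r1]; positivity) (by rw [r2]; exact h0)
      (by rw [d1, d2, r1, r2]; push_cast; ring) hne
    refine ⟨E, hE, ?_, ?_, s3⟩
    · rw [r3, r1, r2]; ring
    · rw [d3, d1, d2]; push_cast; ring

/-- **Stable modules of every rank and degree.** -/
theorem exists_stable (hdim : topologicalKrullDim X = 1) (hg : 1 ≤ Curv2.genus k X) (hD : Def k X)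
    (r : ℕ) (hr : 0 < r) (d : ℤ) :
    ∃ E : X.Modules, FlatMod.IsFinLocFreeOfRank r E ∧ dg k E = d ∧ St k E := by
  have C : Crv k X := Crv.of_smooth hdim
  have hgpos : 0 < Int.gcd d (r : ℤ) := Int.gcd_pos_of_ne_zero_right _ (by positivity)
  obtain ⟨a, b, hab, ha, hb⟩ := Int.exists_gcd_one hgpos
  set h : ℕ := Int.gcd d (r : ℤ) with hh
  have hb0 : 0 < b := by
    have h1 : (0 : ℤ) < r := by positivity
    have h2 : (0 : ℤ) < h := by exact_mod_cast hgpos
    rw [hb] at h1
    exact pos_of_mul_pos_left h1 h2.le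
  obtain ⟨b', rfl⟩ := Int.eq_ofNat_of_zero_le hb0.le
  have hb0' : 0 < b' := by exact_mod_cast hb0
  obtain ⟨E₀, q, e, s⟩ := K334.Cop.exists_stable C (euler_structure_nonpos hdim hg)
    (K705.Gen1Alg.exists_inv_deg k C) b' hb0' a hab
  obtain ⟨M, vM, m1, m2, m3⟩ := exists_multiple hdim hg hD (isFinLocFree_of_rank q)
    (by rw [rk_of_rank q]; exact hb0') s (h - 1)
  have hh1 : h - 1 + 1 = h := Nat.sub_add_cancel hgpos
  have hh2 : ((h - 1 : ℕ) : ℤ) + 1 = h := by exact_mod_cast hh1
  rw [rk_of_rank q, hh1] at m1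
  rw [e, hh2] at m2
  refine ⟨M, ?_, ?_, m3⟩
  · have : rk M = r := by
      zify
      rw [m1]
      push_cast
      rw [hb]; ring
    rw [← this]
    exact isFinLocFreeOfRank_rk vM
  · rw [m2, ha]; ring

end K334.AllRk
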