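import Groth.Agent.TFCurv.K334.NonSplit

/-!
# The data of the deformation of an extension of stable modules (helper334)
-/

set_option autoImplicit false
universe u

open CategoryTheory CategoryTheory.Limits AlgebraicGeometry TopologicalSpace Opposite

namespace K334.Dat

/-- Enlargements `S ⊂ P₁`, `G ⊂ P₂` with torsion quotients `N₁`, `N₂` of disjoint supports, and maps
`a : P₂ ⟶ N₁`, `b : P₁ ⟶ N₂` whose restrictions to `G`, `S` do not lift to `P₁`, `P₂`. -/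
structure Dat {X : Scheme.{u}} (S G : X.Modules) where
  {P₁ P₂ N₁ N₂ : X.Modules}
  i₁ : S ⟶ P₁
  q₁ : P₁ ⟶ N₁
  i₂ : G ⟶ P₂
  q₂ : P₂ ⟶ N₂
  w₁ : i₁ ≫ q₁ = 0
  w₂ : i₂ ≫ q₂ = 0
  e₁ : (ShortComplex.mk i₁ q₁ w₁).ShortExact
  e₂ : (ShortComplex.mk i₂ q₂ w₂).ShortExact
  a : P₂ ⟶ N₁
  b : P₁ ⟶ N₂
  v₁ : FlatMod.IsFinLocFree P₁
  v₂ : FlatMod.IsFinLocFree P₂
  c₁ : Coh.IsCoh N₁
  c₂ : Coh.IsCoh N₂
  disj : ∀ x : X, Subsingleton (N₁.presheaf.stalk x) ∨ Subsingleton (N₂.presheaf.stalk x)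
  na : ¬ ∃ s : G ⟶ P₁, s ≫ q₁ = i₂ ≫ a
  nb : ¬ ∃ s : S ⟶ P₂, s ≫ q₂ = i₁ ≫ b

end K334.Dat
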