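import Groth.Agent.TFCurv.K334.LocFreeK
import Groth.Agent.TFCurv.K334.AllRk
import Groth.Agent.TFCurv.K975.N6
import Groth.Agent.TFCurv.K693.Geo
import Groth.Agent.TFCurv.K693.Rank
import Groth.Agent.TFCurv.K662.DatEx

/-!
# The deformation statement (helper334)

Two non-isomorphic stable modules `S`, `G` of the same slope on a curve of genus at least two have a stable "sum".
-/

set_option autoImplicit false
universe u

open CategoryTheory CategoryTheory.Limits AlgebraicGeometry TopologicalSpace Opposite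

namespace K334.Fam

open K334.Dat K334.NonSplit Groth.Agent Groth.Agent.VarietyA.DegRank K707.Base K707.Deg K707.Slope K707.Semi
open K334.Geo Groth.Agent.LoccohB.HHmap

section mul

variable {Y : Scheme.{u}}

theorem smulHom_eq (M : Y.Modules) (t : Γ(Y, ⊤)) : smulHom M t = Formal.smulModΓ M t := by
  apply Scheme.Modules.hom_ext
  intro V
  ext x
  rfl

end mul

section st

variable {k : Type u} [Field k] {X : Scheme.{u}} [X.Over (Spec (CommRingCat.of k))] [IsIntegral X]

theorem ss_iso {A B : X.Modules} (e : A ≅ B) (h : SS k A) : SS k B := by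
  intro F i hi hF
  have := h F (i ≫ e.inv) (mono_comp _ _) hF
  rwa [rk_iso e, dg_iso k e] at this

theorem st_iso {A B : X.Modules} (e : A ≅ B) (h : St k A) : St k B := by
  intro F i hi hF h0 h1
  have := h F (i ≫ e.inv) (mono_comp _ _) hF h0 (by rwa [rk_iso e])
  rwa [rk_iso e, dg_iso k e] at this

end st

section unif

variable {k : Type u} [Field k] {X : Scheme.{u}} (s : X ⟶ Spec (CommRingCat.of k))

theorem tYR_eq : tYR s = Coh.toGlobal (fR s) (ϖ k) := by
  change (fR s).appTop (((A1 k).fromSpecStalk (s0 k)).appTop (tT k)) = (fR s).appTop _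
  congr 1
  have h := Scheme.fromSpecStalk_appTop (X := A1 k) (x := s0 k)
  have h1 := congrArg (fun φ => φ.hom (tT k)) h
  refine h1.trans ?_
  have h2 : (Spec ((A1 k).presheaf.stalk (s0 k))).presheaf.map
      (homOfLE (le_top : (⊤ : (Spec ((A1 k).presheaf.stalk (s0 k))).Opens) ≤ ⊤)).op = 𝟙 _ :=
    CategoryTheory.Functor.map_id _ _
  erw [h2, Category.comp_id]
  rfl

end unif

section main

variable {k : Type u} [Field k] [IsAlgClosed k] {X : Scheme.{u}} [X.Over (Spec (CommRingCat.of k))]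
  [IsIntegral X] [IsProper (X ↘ Spec (CommRingCat.of k))] [Smooth (X ↘ Spec (CommRingCat.of k))]

/-- The generic fibre of the family is stable if it is semistable. -/
theorem st_generic (hdim : topologicalKrullDim X = 1) {S G : X.Modules} (D : Dat S G)
    (vS : FlatMod.IsFinLocFree S) (vG : FlatMod.IsFinLocFree G)
    (sS : St k S) (sG : St k G) (pS : 0 < rk S) (pG : 0 < rk G) (sl : dg k S * rk G = dg k G * rk S)
    (ne : ¬ Nonempty (S ≅ G))
    (nc : K325.GeomFib.NC (qZ (X ↘ Spec (CommRingCat.of k)))) :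
    letI : (Zη (X ↘ Spec (CommRingCat.of k))).Over (Spec (CommRingCat.of (K k))) :=
      ⟨qZ (X ↘ Spec (CommRingCat.of k))⟩
    letI := nc.int
    SS (K k) ((Scheme.Modules.pullback (jT (X ↘ Spec (CommRingCat.of k)))).obj
      (E D (pT (X ↘ Spec (CommRingCat.of k))) (tY (X ↘ Spec (CommRingCat.of k))))) →
    St (K k) ((Scheme.Modules.pullback (jT (X ↘ Spec (CommRingCat.of k)))).obj
      (E D (pT (X ↘ Spec (CommRingCat.of k))) (tY (X ↘ Spec (CommRingCat.of k))))) := by
  letI : (Zη (X ↘ Spec (CommRingCat.of k))).Over (Spec (CommRingCat.of (K k))) :=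
      ⟨qZ (X ↘ Spec (CommRingCat.of k))⟩
  letI := nc.int
  intro hss
  have C : Crv k X := Crv.of_smooth hdim
  have CK : Crv (K k) (Zη (X ↘ Spec (CommRingCat.of k))) := nc.crv
  let : (YR (X ↘ Spec (CommRingCat.of k))).Over (Spec (CommRingCat.of (R k))) :=
      ⟨fR (X ↘ Spec (CommRingCat.of k))⟩
  have hprop : IsProper (YR (X ↘ Spec (CommRingCat.of k)) ↘ Spec (CommRingCat.of (R k))) :=
    inferInstanceAs (IsProper (fR (X ↘ Spec (CommRingCat.of k))))
  have hfl : Flat (YR (X ↘ Spec (CommRingCat.of k)) ↘ Spec (CommRingCat.of (R k))) :=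
    inferInstanceAs (Flat (fR (X ↘ Spec (CommRingCat.of k))))
  have hnoeth : IsLocallyNoetherian (YR (X ↘ Spec (CommRingCat.of k))) :=
    LocallyOfFiniteType.isLocallyNoetherian (fR (X ↘ Spec (CommRingCat.of k)))
  obtain ⟨e1⟩ := nonempty_generic (X ↘ Spec (CommRingCat.of k)) D
  obtain ⟨e2⟩ := nonempty_iR (X ↘ Spec (CommRingCat.of k)) D
  obtain ⟨e3⟩ := nonempty_iR (X ↘ Spec (CommRingCat.of k)) (swap D)
  obtain ⟨L₀, hL₀⟩ : ∃ L₀ : X.Modules, CohB1.IsAmple L₀ := by
    have : IsNoetherian X := isNoetherian k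
    have : X.IsSeparated := by
      have h1 : IsSeparated (terminal.from X) := by
        rw [← terminal.comp_from (X ↘ Spec (CommRingCat.of k))]
        infer_instance
      exact ⟨h1⟩
    exact Groth.Agent.S1551.result X hdim
  have hL₁ : FlatMod.IsFinLocFreeOfRank 1 L₀ := K707.TensL.rank_one_iff.mpr hL₀.1
  have hdg : 0 < dg k L₀ := K846.CurveSS.dg_pos k hdim hL₀
  have hL : FlatMod.IsFinLocFreeOfRank 1
      ((Scheme.Modules.pullback (pR (X ↘ Spec (CommRingCat.of k)))).obj L₀) :=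
    Groth.Agent.PerfB.FibreConc.isFinLocFreeOfRank_pullback _ hL₁
  have hiL : Nonempty ((Scheme.Modules.pullback (iR (X ↘ Spec (CommRingCat.of k)))).obj
      ((Scheme.Modules.pullback (pR (X ↘ Spec (CommRingCat.of k)))).obj L₀) ≅ L₀) :=
    ⟨(Scheme.Modules.pullbackComp _ _).app L₀ ≪≫ (Scheme.Modules.pullbackCongr (sec_fst _ _ _)).app L₀ ≪≫
      (Scheme.Modules.pullbackId X).app L₀⟩
  obtain ⟨eL⟩ := hiL
  refine st_iso e1.symm ?_
  exact K975.N6.st_generic (k := k) (R := R k) (K := K k) (σ := ρ k) (ρ_surjective k)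
    (i := iR (X ↘ Spec (CommRingCat.of k))) (isPullback_iR _) (j := jR (X ↘ Spec (CommRingCat.of k)))
    (isPullback_jR _) C CK hL (by rw [dg_iso k eL]; exact hdg.ne')
    (isCoh D _ _) (isCoh (swap D) _ _) (isFlatOver D _ _ _ (isPullback_pR _)) (isFlatOver (swap D) _ _ _ (isPullback_pR _))
    (irreducible_ϖ k) (w D _ _) (u D _ _)
    (by rw [w_u, smulHom_eq, tYR_eq]; rfl) (by rw [u_w, smulHom_eq, tYR_eq]; rfl)
    (ns_T0 D vS vG sS sG pS pG sl ne) (ns_T0 (swap D) vG vS sG sS pG pS sl.symm fun ⟨e⟩ => ne ⟨e.symm⟩)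
    e2 e3 (hom_eq_zero C vS vG sS sG sl ne) (hom_eq_zero C vG vS sG sS sl.symm fun ⟨e⟩ => ne ⟨e.symm⟩)
    (ss_iso e1 hss)

omit [IsAlgClosed k] in
variable (k) in
theorem loft_q : LocallyOfFiniteType (K334.Geo.q k) := by
  refine (HasRingHomProperty.Spec_iff (P := @LocallyOfFiniteType)).mpr ?_
  have h : (algebraMap k (Polynomial k)).FiniteType := RingHom.finiteType_algebraMap.mpr inferInstance
  rwa [Polynomial.algebraMap_eq] at h

/-- A stable "sum" from the deformation data. -/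
theorem exists_sum (hdim : topologicalKrullDim X = 1) {S G : X.Modules} (D : Dat S G)
    (vS : FlatMod.IsFinLocFree S) (vG : FlatMod.IsFinLocFree G)
    (sS : St k S) (sG : St k G) (pS : 0 < rk S) (pG : 0 < rk G) (sl : dg k S * rk G = dg k G * rk S)
    (ne : ¬ Nonempty (S ≅ G)) :
    ∃ E : X.Modules, FlatMod.IsFinLocFree E ∧ rk E = rk S + rk G ∧ dg k E = dg k S + dg k G ∧ St k E := by
  have C : Crv k X := Crv.of_smooth hdim
  have hns := ns_T0 D vS vG sS sG pS pG sl ne
  have hloft : LocallyOfFiniteType (K334.Geo.q k) := loft_q k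
  have hint : IsIntegral (YT (X ↘ Spec (CommRingCat.of k))) := K693.TF.isIntegral_XT (K334.Geo.q k)
  have hnoeth : IsLocallyNoetherian (YT (X ↘ Spec (CommRingCat.of k))) :=
    LocallyOfFiniteType.isLocallyNoetherian (fT (X ↘ Spec (CommRingCat.of k)))
  have hflat : Flat (pT (X ↘ Spec (CommRingCat.of k))) := inferInstance
  have hF := isFinLocFreeOfRank_E D (pT (X ↘ Spec (CommRingCat.of k))) (tY (X ↘ Spec (CommRingCat.of k))) vS vG
  set r := rk (E D (pT (X ↘ Spec (CommRingCat.of k))) (tY (X ↘ Spec (CommRingCat.of k)))) with hr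
  obtain ⟨e0⟩ := nonempty_iT (X ↘ Spec (CommRingCat.of k)) D
  have hr0 : rk (T0 D).X₂ = r := by
    rw [← rk_iso e0]
    exact rk_of_rank (Groth.Agent.PerfB.FibreConc.isFinLocFreeOfRank_pullback _ hF)
  have hr1 : rk (T0 D).X₂ = rk S + rk G := rk_add' k _ (T0_shortExact D) (coh_of_vb hns.v₂)
  have nc := K693.TF.nc hdim (K334.Geo.q k) ((A1 k).fromSpecResidueField (η k)) (isPullback_jT (X ↘ Spec (CommRingCat.of k)))
  have hip : iT (X ↘ Spec (CommRingCat.of k)) = K693.TF.ip X (K334.Geo.q k) (zp k) (zp_q k) := by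
    apply pullback.hom_ext
    · exact (sec_fst _ _ _).trans (pullback.lift_fst _ _ _).symm
    · exact (sec_snd _ _ _).trans (pullback.lift_snd _ _ _).symm
  rw [hip] at e0
  let o : (Zη (X ↘ Spec (CommRingCat.of k))).Over (Spec (CommRingCat.of (K k))) :=
      ⟨qZ (X ↘ Spec (CommRingCat.of k))⟩
  obtain ⟨c, hc, hst⟩ := K693.TF.exists_stable_of_pt hdim (K334.Geo.q k) (r := r) (by omega) hF (zp k) (zp_q k)
    (ss_iso e0.symm (NS.ss C hns)) (K693.TF.Simple.of_iso (NS.endo C hns) e0.symm)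
    (K := K k) ((A1 k).fromSpecResidueField (η k)) (Scheme.fromSpecResidueField_apply _ _)
    (jT (X ↘ Spec (CommRingCat.of k))) (isPullback_jT (X ↘ Spec (CommRingCat.of k)))
    (st_generic hdim D vS vG sS sG pS pG sl ne nc)
  obtain ⟨t, ⟨e⟩⟩ := exists_fibre D (K693.TF.ip X (K334.Geo.q k) c hc) c
    (K693.TF.isPullback_ip X (K334.Geo.q k) c hc) (pullback.lift_fst _ _ _)
  obtain ⟨h1, h2, h3⟩ := numbers k D C t
  exact ⟨_, h1, h2, h3, st_iso e hst⟩

/-- **The deformation statement** on curves of genus at least two. -/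
theorem def_holds (hdim : topologicalKrullDim X = 1) (hg : 2 ≤ Curv2.genus k X) : AllRk.Def k X := by
  intro S G vS vG sS sG pS pG sl ne
  have C : Crv k X := Crv.of_smooth hdim
  have hχ := euler_structure_neg C hg
  obtain ⟨A, i, p, w, hA, -, hnA⟩ := exists_ext C hχ vS vG pS pG sl
  obtain ⟨B, j, q, z, hB, -, hnB⟩ := exists_ext C hχ vG vS pG pS sl.symm
  obtain ⟨D⟩ := K662.DatEx.nonempty_dat C vS vG i p w hA hnA j q z hB hnB
  exact exists_sum hdim D vS vG sS sG pS pG sl ne

end main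

end K334.Fam
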