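import Groth.Agent.ShStab.K846.CurveSS

/-!
# Slope-stable vector bundles on curves are Gieseker-stable (helper334)
-/

set_option autoImplicit false
universe u
open CategoryTheory CategoryTheory.Limits AlgebraicGeometry Polynomial

namespace K334.StabGies

open K707.Base K707.Deg K707.Slope K707.Semi K707.TensL Groth.Agent.VarietyA.DegRank StabCat K846.CurveSS K846

variable {k : Type u} [Field k] {X : Scheme.{u}} [X.Over (Spec (CommRingCat.of k))] [IsIntegral X]
  [IsProper (X ↘ (Spec (CommRingCat.of k)))] (C : Crv k X)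

include C

theorem redLT_of {L M N : X.Modules} (hL : CohB1.IsAmple L) (h : dg k M * rk N < dg k N * rk M) :
    RedLT 1 (hpol k L M) (hpol k L N) := by
  have he : (0 : ℚ) < dg k L := by exact_mod_cast dg_pos k C.dim hL
  refine ⟨0, fun m _ => ?_⟩
  rw [alpha_hpol, alpha_hpol, eval_smul, eval_smul, eval_hpol, eval_hpol, smul_eq_mul, smul_eq_mul]
  rw [← sub_pos]
  have e : (rk M : ℚ) * dg k L * ((rk N : ℚ) * dg k L * m + ((dg k N : ℚ) + rk N *
      Curv2.euler k X (Coh.structureModule X))) - (rk N : ℚ) * dg k L * ((rk M : ℚ) * dg k L * m +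
      ((dg k M : ℚ) + rk M * Curv2.euler k X (Coh.structureModule X))) =
      dg k L * ((dg k N * rk M : ℤ) - (dg k M * rk N : ℤ)) := by
    push_cast
    ring
  rw [e, mul_pos_iff_of_pos_left he, sub_pos]
  exact_mod_cast h

/-- A slope-stable vector bundle of positive rank is Gieseker-stable. -/
theorem isStable {L E : X.Modules} (hL : CohB1.IsAmple L) (hE : FlatMod.IsFinLocFree E) (hr : 0 < rk E)
    (h : St k E) : ShStab.IsStable k X L E 1 := by
  have hEc := coh_of_vb hE
  refine ⟨hEc, fun h0 => ?_, isPure C hE, fun F i hi hF h0 hiso pF pE hpF hpE => ?_⟩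
  · have := rk_of_isZero h0
    omega
  · rw [Gies.unique hpF (isHilbPoly k C.dim hL.1 hF), Gies.unique hpE (isHilbPoly k C.dim hL.1 hEc)]
    refine redLT_of C hL ?_
    have hFv := vb_of_mono C i hF hE
    have hF0 : 0 < rk F := by
      rw [Nat.pos_iff_ne_zero]
      exact fun hz => h0 (isZero_of_rk_eq_zero C hFv hz)
    rcases (rk_le_of_mono C i hF hEc).lt_or_eq with h1 | h1
    · exact h F i hi hFv hF0 h1
    · have h2 : dg k F < dg k E := by
        by_contra hc
        exact hiso (isIso_of_mono C i hF hEc h1.ge (not_lt.mp hc))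
      have h3 : (0 : ℤ) < rk E := by exact_mod_cast hr
      rw [h1]
      exact mul_lt_mul_of_pos_right h2 h3

end K334.StabGies
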