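import Groth.Agent.TFCurv.K334.AllRk
import Groth.Agent.TFCurv.K334.StabGies
import Groth.Agent.TFCurv.K840.StabPush
import Groth.Agent.TFCurv.K840.NormRows
import Groth.Agent.Sga3C.DimTop
import Groth.Agent.Ega2.SmoothBdry
import Groth.Agent.S1585

/-!
# Stable direct images along the normalization, from the deformation statement (helper334)
-/

set_option autoImplicit false
universe u
open CategoryTheory CategoryTheory.Limits AlgebraicGeometry

namespace K334.Row33

open Groth.Agent Groth.Agent.VarietyA.DegRank K707.Base K707.Deg K707.Slope K707.Semi K334.AllRk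

section norm

variable (k : Type u) [Field k] (X : Scheme.{u}) [X.Over (Spec (CommRingCat.of k))] [IsIntegral X]
    [IsProper (X ↘ Spec (CommRingCat.of k))]
    [QuasiCompact (X.fromSpecStalk (genericPoint X))] [QuasiSeparated (X.fromSpecStalk (genericPoint X))]

include k in
theorem dim_norm : topologicalKrullDim (Curv2.normalization X) = topologicalKrullDim X := by
  obtain ⟨hfin, hdom, -⟩ := S1585.result k X
  have hs : Surjective (Curv2.normalizationι X) := by
    refine ⟨?_⟩
    rw [← Set.range_eq_univ, ← (Curv2.normalizationι X).isClosedMap.isClosed_range.closure_eq]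
    exact hdom.1.closure_eq
  exact Sga3C.DimTop.topologicalKrullDim_eq_of_isIntegralHom (Curv2.normalizationι X)

theorem smooth_norm [PerfectField k] (hdim : topologicalKrullDim X ≤ 1) :
    Smooth (Curv2.normalizationι X ≫ (X ↘ Spec (CommRingCat.of k))) := by
  have hfin := K840.NormBir.isFinite X k
  have hLN : IsLocallyNoetherian X :=
    LocallyOfFiniteType.isLocallyNoetherian (X ↘ (Spec (CommRingCat.of k)))
  exact Ega2.SmoothBdry.smooth_of_regular _
    (fun y => K373.NormFin.isRegular_of_dim_le_one X hfin hdim y)

end norm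

/-- The row, from the deformation statement on smooth curves of genus at least two. -/
theorem main (k : Type u) [Field k] [IsAlgClosed k]
    (hDef : ∀ (Y : Scheme.{u}) [Y.Over (Spec (CommRingCat.of k))] [IsIntegral Y]
      [IsProper (Y ↘ Spec (CommRingCat.of k))] [Smooth (Y ↘ Spec (CommRingCat.of k))],
      topologicalKrullDim Y = 1 → 2 ≤ Curv2.genus k Y → Def k Y)
    (X : Scheme.{u}) [X.Over (Spec (CommRingCat.of k))] [IsIntegral X] [IsProper (X ↘ Spec (CommRingCat.of k))] (hdim : topologicalKrullDim X = 1) [QuasiCompact (X.fromSpecStalk (genericPoint X))] [QuasiSeparated (X.fromSpecStalk (genericPoint X))] (L : X.Modules) (hL : CohB1.IsAmple L)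
    (hg : letI : (Curv2.normalization X).Over (Spec (CommRingCat.of k)) := ⟨Curv2.normalizationι X ≫ X ↘ Spec (CommRingCat.of k)⟩
      2 ≤ Curv2.genus k (Curv2.normalization X))
    (n : ℕ) (hn : 1 ≤ n) (d : ℤ) :
    ∃ E : (Curv2.normalization X).Modules, FlatMod.IsFinLocFreeOfRank n E ∧ ShStab.IsStable k X L ((Coh.push (Curv2.normalizationι X)).obj E) 1 ∧ Curv2.deg k X ((Coh.push (Curv2.normalizationι X)).obj E) n = d := by
  letI : (Curv2.normalization X).Over (Spec (CommRingCat.of k)) := ⟨Curv2.normalizationι X ≫ X ↘ Spec (CommRingCat.of k)⟩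
  have hfin := K840.NormBir.isFinite X k
  have hint := K840.NormBir.isIntegral_norm X
  have hB := K840.NormBir.bir X
  have hproper : IsProper ((Curv2.normalization X) ↘ Spec (CommRingCat.of k)) :=
    inferInstanceAs (IsProper (Curv2.normalizationι X ≫ X ↘ Spec (CommRingCat.of k)))
  have hsm : Smooth ((Curv2.normalization X) ↘ Spec (CommRingCat.of k)) := smooth_norm k X hdim.le
  have hdim' : topologicalKrullDim (Curv2.normalization X) = 1 := (dim_norm k X).trans hdim
  have C : Crv k (Curv2.normalization X) := Crv.of_smooth hdim'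
  obtain ⟨E, hE, hd, hs⟩ := K334.AllRk.exists_stable hdim' (le_trans (by norm_num) hg)
    (hDef (Curv2.normalization X) hdim' hg) n hn
    (d + n * Curv2.euler k X (Coh.structureModule X)
      - n * Curv2.euler k (Curv2.normalization X) (Coh.structureModule (Curv2.normalization X)))
  have vE := isFinLocFree_of_rank hE
  have hr : 0 < rk E := by rw [rk_of_rank hE]; exact hn
  refine ⟨E, hE, ?_, ?_⟩
  · exact K840.StabPush.isStable_push (Curv2.normalizationι X) rfl hL hdim.le hB
      (K334.StabGies.isStable C (Sga5.AmpleFib.isAmple_pullback (Curv2.normalizationι X) hL) vE hr hs)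
  · have h1 := dg_of_rank k hE
    rw [hd] at h1
    unfold Curv2.deg at h1 ⊢
    have h2 : Curv2.euler k X ((Coh.push (Curv2.normalizationι X)).obj E) =
        Curv2.euler k (Curv2.normalization X) E := by
      have hc := coh_of_vb vE
      exact (Fga.HodgePush.euler_push k X (Curv2.normalization X) (Curv2.normalizationι X) rfl E hc
        (Fga.HodgePush.acyc_of_isAffineHom (Curv2.normalizationι X) hc.1)).symm
    rw [h2]
    linarith

end K334.Row33
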