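import Groth.Agent.VBCurve.K705.Gen1Stab

/-!
# Stable modules of coprime rank and degree on curves with `χ(O) ≤ 0` (helper334)
-/

set_option autoImplicit false
universe u

open CategoryTheory CategoryTheory.Limits AlgebraicGeometry TopologicalSpace Opposite MonoidalCategory

namespace K334.Cop

open scoped Groth.Agent.Dcoh.MonCat
open Groth.Agent.VarietyA.DegRank K707.Base K707.Deg K707.Slope K707.Semi K705.Setup K705.ExtH1 K705.Gen1Stab

variable {k : Type u} [Field k] {X : Scheme.{u}} [X.Over (Spec (CommRingCat.of k))]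
  [IsIntegral X] [IsProper (X ↘ (Spec (CommRingCat.of k)))]

/-- Stable modules of coprime rank and degree, given invertible modules of each degree, on a curve with
`χ(O) ≤ 0`. -/
theorem exists_stable (C : Crv k X) (hχ0 : Curv2.euler k X (Coh.structureModule X) ≤ 0)
    (hL : ∀ d : ℤ, ∃ L : X.Modules, PicF.IsInvertible L ∧ dg k L = d) :
    ∀ (r : ℕ), 0 < r → ∀ d : ℤ, Int.gcd d (r : ℤ) = 1 →
      ∃ E : X.Modules, FlatMod.IsFinLocFreeOfRank r E ∧ dg k E = d ∧ St k E := by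
  intro r
  induction r using Nat.strong_induction_on with
  | _ r ih =>
  intro hr d hgcd
  rcases (show r = 1 ∨ 2 ≤ r by omega) with rfl | h2
  · obtain ⟨L, h1, h3⟩ := hL d
    have h4 := K707.TensL.rank_one_iff.mpr h1
    refine ⟨L, h4, h3, fun F i hi hF h0 hlt => ?_⟩
    rw [rk_of_rank h4] at hlt
    omega
  · obtain ⟨r₁, r₂, d₁, d₂, p₁, p₂, hsum, hdsum, hF⟩ := K705.Farey.exists_parents r d h2 hgcd
    obtain ⟨E₁, q₁, e₁, s₁⟩ := ih r₁ (by omega) p₁ d₁ (by
      rw [← Int.isCoprime_iff_gcd_eq_one]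
      exact ⟨-r₂, d₂, by linear_combination hF⟩)
    obtain ⟨E₂, q₂, e₂, s₂⟩ := ih r₂ (by omega) p₂ d₂ (by
      rw [← Int.isCoprime_iff_gcd_eq_one]
      exact ⟨r₁, -d₁, by linear_combination hF⟩)
    have v₁ := isFinLocFree_of_rank q₁
    have v₂ := isFinLocFree_of_rank q₂
    obtain ⟨E₂', hE₂', ⟨P⟩⟩ := K708.Dual.exists_dual q₂
    have hχ := K708.DualDeg.euler_hom C v₂ v₁ E₂'
    rw [rk_of_rank q₂, rk_of_rank q₁, e₁, e₂, euler_eq C] at hχ
    have hns : ¬ Subsingleton (Coh.HH X (CohB1.tensorMod E₁ E₂') 1) := fun h => by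
      rw [Module.finrank_zero_of_subsingleton (M := Coh.HH X (CohB1.tensorMod E₁ E₂') 1)] at hχ
      have h0 : (0 : ℤ) ≤ Module.finrank k (Coh.HH X (CohB1.tensorMod E₁ E₂') 0) := by positivity
      have h3 : (r₂ : ℤ) * r₁ * Curv2.euler k X (Coh.structureModule X) ≤ 0 :=
        mul_nonpos_of_nonneg_of_nonpos (by positivity) hχ0
      push_cast at hχ
      linarith
    obtain ⟨M, i, p, w, hS, hsec⟩ := exists_nonsplit E₂ E₂' E₁ hns
    have vM : FlatMod.IsFinLocFree M :=
      Groth.Agent.Sga67.LocBasis.isFinLocFree_of_shortExact hS v₁ v₂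
    have hst := stable_of_nonsplit C (ShortComplex.mk i p w) hS v₁ vM v₂ s₁ s₂
      (by rw [rk_of_rank q₁]; exact p₁) (by rw [rk_of_rank q₂]; exact p₂)
      (by rw [rk_of_rank q₁, rk_of_rank q₂, e₁, e₂]; exact hF) hsec
    have a1 := rk_add' k _ hS (coh_of_vb vM)
    have a2 := dg_add k _ hS (coh_of_vb v₁) (coh_of_vb vM) (coh_of_vb v₂)
    have hrM : rk M = r := by
      have : rk M = rk E₁ + rk E₂ := a1
      rw [this, rk_of_rank q₁, rk_of_rank q₂, hsum]
    refine ⟨M, ?_, ?_, hst⟩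
    · rw [← hrM]
      exact isFinLocFreeOfRank_rk vM
    · have : dg k M = dg k E₁ + dg k E₂ := a2
      rw [this, e₁, e₂, hdsum]

end K334.Cop
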