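import Groth.Agent.TFCurv.K334.Dat
import Groth.Agent.VBCurve.K709.KerDesc
import Groth.Agent.Surf.K460.FlatExt
import Groth.Agent.Fga.FSFinal
import Groth.Agent.PerfC.FlatExact
import Groth.Agent.S1391
import Groth.Agent.CycB.LFCoprod2
import Groth.Agent.PerfA.QCohExt

/-!
# The family deforming a non-split extension of stable modules (helper334)

For `D : Dat S G`, `p : Y ⟶ X` and a function `t` on `Y`, `E D p t` is the kernel of
`[[q₁, a], [t b, q₂]] : p^*P₁ ⊞ p^*P₂ ⟶ p^*N₁ ⊞ p^*N₂`.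
-/

set_option autoImplicit false
universe u

open CategoryTheory CategoryTheory.Limits AlgebraicGeometry TopologicalSpace Opposite

namespace K334.Fam

open K334.Dat Groth.Agent Groth.Agent.LoccohB.HHmap

section swap

variable {X : Scheme.{u}} {S G : X.Modules}

/-- Exchange of the roles. -/
noncomputable abbrev swap (D : Dat S G) : Dat G S where
  P₁ := D.P₂
  P₂ := D.P₁
  N₁ := D.N₂
  N₂ := D.N₁
  i₁ := D.i₂
  q₁ := D.q₂
  i₂ := D.i₁
  q₂ := D.q₁
  w₁ := D.w₂
  w₂ := D.w₁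
  e₁ := D.e₂
  e₂ := D.e₁
  a := D.b
  b := D.a
  v₁ := D.v₂
  v₂ := D.v₁
  c₁ := D.c₂
  c₂ := D.c₁
  disj := fun x => (D.disj x).symm
  na := D.nb
  nb := D.na

theorem swap_swap (D : Dat S G) : swap (swap D) = D := rfl

end swap

section abs

variable {C : Type*} [Category C] [Abelian C]

/-- The matrix `[[q₁, a], [b, q₂]]`. -/
noncomputable def mat {A₁ A₂ B₁ B₂ : C} (q₁ : A₁ ⟶ B₁) (a : A₂ ⟶ B₁) (b : A₁ ⟶ B₂) (q₂ : A₂ ⟶ B₂) :
    A₁ ⊞ A₂ ⟶ B₁ ⊞ B₂ :=
  biprod.desc (biprod.lift q₁ b) (biprod.lift a q₂)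

@[reassoc (attr := simp)] theorem inl_mat {A₁ A₂ B₁ B₂ : C} (q₁ : A₁ ⟶ B₁) (a : A₂ ⟶ B₁) (b : A₁ ⟶ B₂) (q₂ : A₂ ⟶ B₂) :
    biprod.inl ≫ mat q₁ a b q₂ = biprod.lift q₁ b := biprod.inl_desc _ _

@[reassoc (attr := simp)] theorem inr_mat {A₁ A₂ B₁ B₂ : C} (q₁ : A₁ ⟶ B₁) (a : A₂ ⟶ B₁) (b : A₁ ⟶ B₂) (q₂ : A₂ ⟶ B₂) :
    biprod.inr ≫ mat q₁ a b q₂ = biprod.lift a q₂ := biprod.inr_desc _ _

end abs

variable {X Y : Scheme.{u}} {S G : X.Modules} (D : Dat S G) (p : Y ⟶ X) (t : Γ(Y, ⊤))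

/-- Pull-back of modules. -/
noncomputable abbrev pu (p : Y ⟶ X) (M : X.Modules) : Y.Modules := (Scheme.Modules.pullback p).obj M

/-- Pull-back of morphisms. -/
noncomputable abbrev pm (p : Y ⟶ X) {M N : X.Modules} (f : M ⟶ N) : pu p M ⟶ pu p N :=
  (Scheme.Modules.pullback p).map f

/-- The matrix of the family. -/
noncomputable def Phi : pu p D.P₁ ⊞ pu p D.P₂ ⟶ pu p D.N₁ ⊞ pu p D.N₂ :=
  mat (pm p D.q₁) (pm p D.a) (pm p D.b ≫ smulHom _ t) (pm p D.q₂)

/-- The family. -/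
noncomputable def E : Y.Modules := kernel (Phi D p t)

/-- The embedding of the family. -/
noncomputable def em : E D p t ⟶ pu p D.P₁ ⊞ pu p D.P₂ := kernel.ι (Phi D p t)

instance : Mono (em D p t) := inferInstanceAs (Mono (kernel.ι (Phi D p t)))

theorem em_Phi : em D p t ≫ Phi D p t = 0 := kernel.condition _

/-- `(x, y) ↦ (y, t x)`. -/
noncomputable def sw {A₁ A₂ : Y.Modules} (t : Γ(Y, ⊤)) : A₁ ⊞ A₂ ⟶ A₂ ⊞ A₁ :=
  biprod.desc (smulHom _ t ≫ biprod.inr) biprod.inl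

theorem sw_sw {A₁ A₂ : Y.Modules} (t : Γ(Y, ⊤)) :
    (sw t : A₁ ⊞ A₂ ⟶ A₂ ⊞ A₁) ≫ sw t = smulHom _ t := by
  apply biprod.hom_ext'
  · simp only [sw, biprod.inl_desc_assoc, Category.assoc, biprod.inr_desc]
    exact smulHom_comp _ _
  · simp only [sw, biprod.inr_desc_assoc, biprod.inl_desc]
    exact smulHom_comp _ _

theorem Phi_sw : Phi D p t ≫ sw t = sw t ≫ Phi (swap D) p t := by
  apply biprod.hom_ext'
  · change biprod.inl ≫ mat _ _ _ _ ≫ sw t = biprod.inl ≫ sw t ≫ mat _ _ _ _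
    rw [inl_mat_assoc]
    simp only [sw, biprod.inl_desc_assoc, Category.assoc, inr_mat]
    apply biprod.hom_ext
    · simp only [swap, biprod.lift_desc, Category.assoc, Preadditive.add_comp, biprod.inr_fst, comp_zero,
        biprod.inl_fst, Category.comp_id, zero_add, biprod.lift_fst]
      exact (smulHom_comp _ _).symm
    · simp only [swap, biprod.lift_desc, Category.assoc, Preadditive.add_comp, biprod.inr_snd, Category.comp_id,
        biprod.inl_snd, comp_zero, add_zero, biprod.lift_snd]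
      exact (smulHom_comp _ _).symm
  · change biprod.inr ≫ mat _ _ _ _ ≫ sw t = biprod.inr ≫ sw t ≫ mat _ _ _ _
    rw [inr_mat_assoc]
    simp only [sw, biprod.inr_desc_assoc, inl_mat]
    apply biprod.hom_ext
    · simp [swap]
    · simp [swap]

/-- `(x, y) ↦ (y, t x)` on the families. -/
noncomputable def w : E D p t ⟶ E (swap D) p t :=
  kernel.map _ _ (sw t) (sw t) (Phi_sw D p t)

theorem w_em : w D p t ≫ em (swap D) p t = em D p t ≫ sw t :=
  kernel.lift_ι _ _ _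

/-- The map in the other direction. -/
noncomputable def u : E (swap D) p t ⟶ E D p t := w (swap D) p t

theorem u_em : u D p t ≫ em D p t = em (swap D) p t ≫ sw t := w_em (swap D) p t

theorem w_u : w D p t ≫ u D p t = smulHom (E D p t) t := by
  rw [← cancel_mono (em D p t), Category.assoc, u_em, ← Category.assoc, w_em, Category.assoc, sw_sw]
  exact (smulHom_comp _ _).symm

theorem u_w : u D p t ≫ w D p t = smulHom (E (swap D) p t) t := w_u (swap D) p t

section stalks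

open Groth.Agent.CycB.StalkExact

theorem stalk_biprod_ext {B₁ B₂ : Y.Modules} (y : Y) {z z' : (B₁ ⊞ B₂).presheaf.stalk y}
    (h1 : stalkLin (biprod.fst : B₁ ⊞ B₂ ⟶ B₁) y z = stalkLin biprod.fst y z')
    (h2 : stalkLin (biprod.snd : B₁ ⊞ B₂ ⟶ B₂) y z = stalkLin biprod.snd y z') : z = z' := by
  have key : ∀ z : (B₁ ⊞ B₂).presheaf.stalk y, z = stalkLin (biprod.inl : B₁ ⟶ B₁ ⊞ B₂) y
      (stalkLin (biprod.fst : B₁ ⊞ B₂ ⟶ B₁) y z) + stalkLin (biprod.inr : B₂ ⟶ B₁ ⊞ B₂) y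
      (stalkLin (biprod.snd : B₁ ⊞ B₂ ⟶ B₂) y z) := by
    intro z
    have h3 : stalkLin (biprod.fst ≫ biprod.inl + biprod.snd ≫ biprod.inr : B₁ ⊞ B₂ ⟶ B₁ ⊞ B₂) y z = z := by
      rw [biprod.total, stalkLin_id]
      rfl
    rw [Groth.Agent.CycB.LFCoprod2.stalkLin_add, stalkLin_comp, stalkLin_comp] at h3
    exact h3.symm
  rw [key z, key z', h1, h2]

theorem epi_mat {A₁ A₂ B₁ B₂ : Y.Modules} (q₁ : A₁ ⟶ B₁) (a : A₂ ⟶ B₁) (b : A₁ ⟶ B₂) (q₂ : A₂ ⟶ B₂)
    [Epi q₁] [Epi q₂] (h : ∀ y : Y, Subsingleton (B₁.presheaf.stalk y) ∨ Subsingleton (B₂.presheaf.stalk y)) :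
    Epi (mat q₁ a b q₂) := by
  rw [PerfC.FlatExact.epi_iff_stalkLin]
  intro y z
  rcases h y with h1 | h1
  · obtain ⟨x, hx⟩ := stalkLin_surjective q₂ y (stalkLin biprod.snd y z)
    refine ⟨stalkLin biprod.inr y x, ?_⟩
    apply stalk_biprod_ext
    · exact Subsingleton.elim _ _
    · rw [← hx]
      change ((stalkLin biprod.snd y).comp ((stalkLin (mat q₁ a b q₂) y).comp (stalkLin biprod.inr y))) x = _
      rw [← stalkLin_comp, ← stalkLin_comp]
      congr 2
      rw [inr_mat, biprod.lift_snd]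
  · obtain ⟨x, hx⟩ := stalkLin_surjective q₁ y (stalkLin biprod.fst y z)
    refine ⟨stalkLin biprod.inl y x, ?_⟩
    apply stalk_biprod_ext
    · rw [← hx]
      change ((stalkLin biprod.fst y).comp ((stalkLin (mat q₁ a b q₂) y).comp (stalkLin biprod.inl y))) x = _
      rw [← stalkLin_comp, ← stalkLin_comp]
      congr 2
      rw [inl_mat, biprod.lift_fst]
    · exact Subsingleton.elim _ _

end stalks

theorem epi_Phi : Epi (Phi D p t) := by
  have h1 : Epi D.q₁ := D.e₁.epi_g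
  have h2 : Epi D.q₂ := D.e₂.epi_g
  exact epi_mat _ _ _ _ fun y => (D.disj (p.base y)).imp
    (fun h => PerfC.FlatExact.subsingleton_stalk_pullback p _ y h)
    (fun h => PerfC.FlatExact.subsingleton_stalk_pullback p _ y h)

/-- The defining exact sequence. -/
noncomputable def seq : ShortComplex Y.Modules :=
  ShortComplex.mk (em D p t) (Phi D p t) (em_Phi D p t)

theorem seq_shortExact : (seq D p t).ShortExact :=
  haveI := epi_Phi D p t
  { exact := ShortComplex.exact_kernel _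
    mono_f := inferInstanceAs (Mono (em D p t))
    epi_g := ‹_› }

theorem isCoh_biprod [IsLocallyNoetherian Y] {A B : Y.Modules} (hA : Coh.IsCoh A) (hB : Coh.IsCoh B) :
    Coh.IsCoh (A ⊞ B) :=
  PerfA.QCohExt.isCoh_ext (ShortComplex.Splitting.ofHasBinaryBiproduct A B).shortExact hA hB

theorem isCoh [IsLocallyNoetherian Y] : Coh.IsCoh (E D p t) := by
  have h1 : Coh.IsCoh (pu p D.P₁ ⊞ pu p D.P₂) := isCoh_biprod
    (FormalA.PullbackQC.isCoh_pullback p _ (K707.Slope.coh_of_vb D.v₁))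
    (FormalA.PullbackQC.isCoh_pullback p _ (K707.Slope.coh_of_vb D.v₂))
  have h2 : Coh.IsCoh (pu p D.N₁ ⊞ pu p D.N₂) := isCoh_biprod
    (FormalA.PullbackQC.isCoh_pullback p _ D.c₁) (FormalA.PullbackQC.isCoh_pullback p _ D.c₂)
  exact Sga67.CohBasic.isCoh_kernel _ h1 h2.1

section flat

variable {T : Scheme.{u}} (f : Y ⟶ T)

theorem isFlatOver_biprod {A B : Y.Modules} (hA : FlatMod.IsFlatOver f A) (hB : FlatMod.IsFlatOver f B) :
    FlatMod.IsFlatOver f (A ⊞ B) := fun x =>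
  PerfC.RelFlat.isFlatOverAt_of_shortExact f _ (ShortComplex.Splitting.ofHasBinaryBiproduct A B).shortExact x
    (hA x) (hB x)

/-- Constant families over a product over a field are flat. -/
theorem isFlatOver_pu {k : Type u} [Field k] {q : T ⟶ Spec (CommRingCat.of k)} {s : X ⟶ Spec (CommRingCat.of k)}
    (H : IsPullback p f s q) {M : X.Modules} (hM : Coh.IsQCoh M) : FlatMod.IsFlatOver f (pu p M) := fun x =>
  S1391.result s f p q H M hM x (Fga.FSFinal.flat_over_field s M _)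

variable {k : Type u} [Field k] {q : T ⟶ Spec (CommRingCat.of k)} {s : X ⟶ Spec (CommRingCat.of k)}
  (H : IsPullback p f s q)

include H

theorem isFlatOver_target : FlatMod.IsFlatOver f (pu p D.N₁ ⊞ pu p D.N₂) :=
  isFlatOver_biprod f (isFlatOver_pu p f H D.c₁.1) (isFlatOver_pu p f H D.c₂.1)

/-- The family is flat. -/
theorem isFlatOver : FlatMod.IsFlatOver f (E D p t) := fun x =>
  PerfC.RelFlat.isFlatOverAt_of_shortExact_left (f := f) (seq D p t) (seq_shortExact D p t) x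
    (isFlatOver_biprod f (isFlatOver_pu p f H (K707.Slope.coh_of_vb D.v₁).1)
      (isFlatOver_pu p f H (K707.Slope.coh_of_vb D.v₂).1) x) (isFlatOver_target D p f H x)

end flat

end K334.Fam
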