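import Groth.Agent.TFCurv.K334.FamZero
import Groth.Agent.TFCurv.K334.AllRk

/-!
# The fibre at zero is a non-split extension; existence of non-split extensions (helper334)
-/

set_option autoImplicit false
universe u

open CategoryTheory CategoryTheory.Limits AlgebraicGeometry TopologicalSpace Opposite MonoidalCategory

namespace K334.Fam

open scoped Groth.Agent.Dcoh.MonCat
open K334.Dat K334.NonSplit Groth.Agent Groth.Agent.VarietyA.DegRank K707.Base K707.Deg K707.Slope K707.Semi
open K705.Setup K705.ExtH1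

variable {k : Type u} [Field k] {X : Scheme.{u}} [X.Over (Spec (CommRingCat.of k))]
  [IsIntegral X] [IsProper (X ↘ (Spec (CommRingCat.of k)))]

theorem ns_T0 {S G : X.Modules} (D : Dat S G) (vS : FlatMod.IsFinLocFree S) (vG : FlatMod.IsFinLocFree G)
    (sS : St k S) (sG : St k G) (pS : 0 < rk S) (pG : 0 < rk G) (sl : dg k S * rk G = dg k G * rk S)
    (ne : ¬ Nonempty (S ≅ G)) : NS k (T0 D) where
  ex := T0_shortExact D
  v₁ := vS
  v₂ := Sga67.LocBasis.isFinLocFree_of_shortExact (T0_shortExact D) vS vG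
  v₃ := vG
  s₁ := sS
  s₃ := sG
  p₁ := pS
  p₃ := pG
  sl := sl
  ne := ne
  ns := T0_nonsplit D

/-- On a curve with `χ(O) < 0` there are non-split extensions of modules of the same slope. -/
theorem exists_ext (C : Crv k X) (hχ0 : Curv2.euler k X (Coh.structureModule X) < 0) {S G : X.Modules}
    (vS : FlatMod.IsFinLocFree S) (vG : FlatMod.IsFinLocFree G) (pS : 0 < rk S) (pG : 0 < rk G)
    (sl : dg k S * rk G = dg k G * rk S) :
    ∃ (M : X.Modules) (i : S ⟶ M) (p : M ⟶ G) (w : i ≫ p = 0), (ShortComplex.mk i p w).ShortExact ∧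
      FlatMod.IsFinLocFree M ∧ ¬ ∃ s : G ⟶ M, s ≫ p = 𝟙 _ := by
  obtain ⟨G', hG', ⟨P⟩⟩ := K708.Dual.exists_dual (isFinLocFreeOfRank_rk vG)
  have hχ := K708.DualDeg.euler_hom C vG vS G'
  rw [euler_eq C] at hχ
  have hns : ¬ Subsingleton (Coh.HH X (CohB1.tensorMod S G') 1) := fun h => by
    rw [Module.finrank_zero_of_subsingleton (M := Coh.HH X (CohB1.tensorMod S G') 1)] at hχ
    have h0 : (0 : ℤ) ≤ Module.finrank k (Coh.HH X (CohB1.tensorMod S G') 0) := by positivity
    have p1 : (0 : ℤ) < rk S := by exact_mod_cast pS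
    have p2 : (0 : ℤ) < rk G := by exact_mod_cast pG
    have h3 : (rk G : ℤ) * rk S * Curv2.euler k X (Coh.structureModule X) < 0 :=
      mul_neg_of_pos_of_neg (mul_pos p2 p1) hχ0
    push_cast at hχ
    linarith
  obtain ⟨M, i, p, w, hS, hsec⟩ := exists_nonsplit G G' S hns
  exact ⟨M, i, p, w, hS, Groth.Agent.Sga67.LocBasis.isFinLocFree_of_shortExact hS vS vG, hsec⟩

theorem euler_structure_neg [IsAlgClosed k] (C : Crv k X)
    (hg : 2 ≤ Curv2.genus k X) : Curv2.euler k X (Coh.structureModule X) < 0 := by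
  have h0 := Groth.Agent.VarietyA.CurveFin.finrank_h0_structure k X
  have hg' : Curv2.genus k X = Module.finrank k (Coh.HH X (Coh.structureModule X) 1) := rfl
  rw [K705.Setup.euler_eq C, h0, ← hg']
  push_cast
  have : (2 : ℤ) ≤ Curv2.genus k X := by exact_mod_cast hg
  linarith

end K334.Fam
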