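import Groth.Agent.TFCurv.K334.Fam

/-!
# The fibre at zero of the family of `Dat` (helper334)

`T0 D : 0 ⟶ S ⟶ P₁ ×_{N₁} G ⟶ G ⟶ 0` is the extension defined by `a`; it does not split, and it is the fibre of the
family `E D p t` where `t = 0`.
-/

set_option autoImplicit false
universe u

open CategoryTheory CategoryTheory.Limits AlgebraicGeometry TopologicalSpace Opposite

namespace K334.Fam

open K334.Dat Groth.Agent Groth.Agent.LoccohB.HHmap

section abs

universe v w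
variable {C : Type w} [Category.{v} C] [Abelian C]

/-- The pull-back of a sequence along a morphism. -/
noncomputable def pb (S : ShortComplex C) {Z : C} (c : Z ⟶ S.X₃) : ShortComplex C :=
  ShortComplex.mk (pullback.lift S.f 0 (by rw [S.zero, zero_comp]) : S.X₁ ⟶ pullback S.g c)
    (pullback.snd S.g c) (pullback.lift_snd _ _ _)

theorem pb_shortExact {S : ShortComplex C} (hS : S.ShortExact) {Z : C} (c : Z ⟶ S.X₃) : (pb S c).ShortExact := by
  have hf : Mono S.f := hS.mono_f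
  have hg : Epi S.g := hS.epi_g
  have h1 : Mono (pb S c).f := by
    have h0 : (pb S c).f ≫ (show (pb S c).X₂ ⟶ S.X₂ from pullback.fst S.g c) = S.f := pullback.lift_fst _ _ _
    have h2 : Mono ((pb S c).f ≫ (show (pb S c).X₂ ⟶ S.X₂ from pullback.fst S.g c)) := by
      rw [h0]
      exact hf
    exact mono_of_mono _ (show (pb S c).X₂ ⟶ S.X₂ from pullback.fst S.g c)
  have h3 : Epi (pb S c).g := inferInstanceAs (Epi (pullback.snd S.g c))
  have key : ∀ {A : C} (k : A ⟶ pullback S.g c), k ≫ pullback.snd S.g c = 0 →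
      ∃ l : A ⟶ S.X₁, l ≫ (pullback.lift S.f 0 (by rw [S.zero, zero_comp]) : S.X₁ ⟶ pullback S.g c) = k := by
    intro A k hk
    have h4 : (k ≫ pullback.fst S.g c) ≫ S.g = 0 := by
      rw [Category.assoc, pullback.condition, reassoc_of% hk, zero_comp]
    refine ⟨hS.exact.lift (k ≫ pullback.fst S.g c) h4, ?_⟩
    apply pullback.hom_ext
    · rw [Category.assoc, pullback.lift_fst]
      exact hS.exact.lift_f _ _
    · rw [Category.assoc, pullback.lift_snd, comp_zero, hk]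
  refine { exact := ?_, mono_f := h1, epi_g := h3 }
  exact ShortComplex.exact_of_f_is_kernel _ (KernelFork.IsLimit.ofι' _ _ fun {A} k hk =>
    ⟨(key k hk).choose, (key k hk).choose_spec⟩)

theorem mat_fst {A₁ A₂ B₁ B₂ : C} (q₁ : A₁ ⟶ B₁) (a : A₂ ⟶ B₁) (b : A₁ ⟶ B₂) (q₂ : A₂ ⟶ B₂) :
    mat q₁ a b q₂ ≫ biprod.fst = biprod.fst ≫ q₁ + biprod.snd ≫ a := by
  apply biprod.hom_ext' <;> simp

theorem mat_snd {A₁ A₂ B₁ B₂ : C} (q₁ : A₁ ⟶ B₁) (a : A₂ ⟶ B₁) (b : A₁ ⟶ B₂) (q₂ : A₂ ⟶ B₂) :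
    mat q₁ a b q₂ ≫ biprod.snd = biprod.fst ≫ b + biprod.snd ≫ q₂ := by
  apply biprod.hom_ext' <;> simp

end abs

variable {X : Scheme.{u}} {S G : X.Modules} (D : Dat S G)

/-- The extension defined by `a`. -/
noncomputable def T0 : ShortComplex X.Modules :=
  pb (ShortComplex.mk D.i₁ D.q₁ D.w₁) (-(D.i₂ ≫ D.a))

theorem T0_shortExact : (T0 D).ShortExact := pb_shortExact D.e₁ _

theorem T0_nonsplit : ¬ ∃ s : G ⟶ (T0 D).X₂, s ≫ (T0 D).g = 𝟙 _ := by
  intro h
  obtain ⟨s, hs⟩ : ∃ s : G ⟶ pullback D.q₁ (-(D.i₂ ≫ D.a)), s ≫ pullback.snd D.q₁ (-(D.i₂ ≫ D.a)) = 𝟙 _ := h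
  apply D.na
  have h1 : (s ≫ pullback.fst D.q₁ (-(D.i₂ ≫ D.a))) ≫ D.q₁ = -(D.i₂ ≫ D.a) := by
    rw [Category.assoc, pullback.condition, ← Category.assoc, hs, Category.id_comp]
  exact ⟨-(s ≫ pullback.fst D.q₁ (-(D.i₂ ≫ D.a))), by rw [Preadditive.neg_comp, h1, neg_neg]⟩

/-- The middle term as a kernel. -/
theorem nonempty_T0_iso : Nonempty (kernel (mat D.q₁ D.a 0 D.q₂) ≅ (T0 D).X₂) := by
  have hm : Mono D.i₂ := D.e₂.mono_f
  let K := kernel (mat D.q₁ D.a 0 D.q₂)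
  let ι : K ⟶ D.P₁ ⊞ D.P₂ := kernel.ι _
  have hι : ι ≫ mat D.q₁ D.a 0 D.q₂ = 0 := kernel.condition _
  have h1 : (ι ≫ biprod.fst) ≫ D.q₁ + (ι ≫ biprod.snd) ≫ D.a = 0 := by
    have h := congrArg (· ≫ biprod.fst) hι
    simp only [Category.assoc, mat_fst, zero_comp, Preadditive.comp_add] at h
    simpa only [Category.assoc] using h
  have h2 : (ι ≫ biprod.snd) ≫ D.q₂ = 0 := by
    have h := congrArg (· ≫ biprod.snd) hι
    simp only [Category.assoc, mat_snd, zero_comp, comp_zero, zero_add] at h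
    simpa only [Category.assoc] using h
  let l : K ⟶ G := D.e₂.exact.lift (ι ≫ biprod.snd) h2
  have hl : l ≫ D.i₂ = ι ≫ biprod.snd := D.e₂.exact.lift_f _ _
  have h3 : (ι ≫ biprod.fst) ≫ D.q₁ = l ≫ (-(D.i₂ ≫ D.a)) := by
    rw [Preadditive.comp_neg, ← Category.assoc l, hl]
    exact eq_neg_of_add_eq_zero_left h1
  let φ : K ⟶ pullback D.q₁ (-(D.i₂ ≫ D.a)) := pullback.lift (ι ≫ biprod.fst) l h3
  have h4 : (biprod.lift (pullback.fst D.q₁ (-(D.i₂ ≫ D.a))) (pullback.snd D.q₁ (-(D.i₂ ≫ D.a)) ≫ D.i₂)) ≫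
      mat D.q₁ D.a 0 D.q₂ = 0 := by
    apply biprod.hom_ext
    · rw [Category.assoc, mat_fst, Preadditive.comp_add, biprod.lift_fst_assoc, biprod.lift_snd_assoc,
        pullback.condition, Category.assoc, ← Preadditive.comp_add, neg_add_cancel, comp_zero, zero_comp]
    · rw [Category.assoc, mat_snd, Preadditive.comp_add, biprod.lift_snd_assoc, comp_zero, comp_zero,
        Category.assoc, D.w₂, comp_zero, zero_comp, add_zero]
  let ψ : pullback D.q₁ (-(D.i₂ ≫ D.a)) ⟶ K := kernel.lift _ _ h4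
  have hψ : ψ ≫ ι = biprod.lift (pullback.fst D.q₁ (-(D.i₂ ≫ D.a))) (pullback.snd D.q₁ (-(D.i₂ ≫ D.a)) ≫ D.i₂) :=
    kernel.lift_ι _ _ _
  have hιm : Mono ι := inferInstanceAs (Mono (kernel.ι _))
  have c1 : φ ≫ ψ = 𝟙 K := by
    rw [← cancel_mono ι, Category.assoc, hψ, Category.id_comp]
    apply biprod.hom_ext
    · rw [Category.assoc, biprod.lift_fst, pullback.lift_fst]
    · rw [Category.assoc, biprod.lift_snd, pullback.lift_snd_assoc, hl]
  have c2 : ψ ≫ φ = 𝟙 (pullback D.q₁ (-(D.i₂ ≫ D.a))) := by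
    apply pullback.hom_ext
    · rw [Category.assoc, pullback.lift_fst, ← Category.assoc, hψ, biprod.lift_fst, Category.id_comp]
    · rw [← cancel_mono D.i₂, Category.assoc, Category.assoc, pullback.lift_snd_assoc, hl, ← Category.assoc, hψ,
        biprod.lift_snd, Category.id_comp]
  exact ⟨(⟨φ, ψ, c1, c2⟩ : K ≅ pullback D.q₁ (-(D.i₂ ≫ D.a)))⟩

variable {Y Z : Scheme.{u}} (p : Y ⟶ X) (t : Γ(Y, ⊤)) (i : Z ⟶ Y)

/-- Base change of the kernel: `F` is any functor isomorphic to `i^* p^*`. -/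
theorem nonempty_base {T T' : Scheme.{u}} {f : Y ⟶ T} {f' : Z ⟶ T'} {g : T' ⟶ T} (Hi : IsPullback i f' f g)
    (hfl : FlatMod.IsFlatOver f (pu p D.N₁ ⊞ pu p D.N₂)) (F : X.Modules ⥤ Z.Modules) [F.Additive]
    (θ : Scheme.Modules.pullback p ⋙ Scheme.Modules.pullback i ≅ F) :
    Nonempty ((Scheme.Modules.pullback i).obj (E D p t) ≅
      kernel (mat (F.map D.q₁) (F.map D.a) (F.map D.b ≫ smulHom _ (i.appTop t)) (F.map D.q₂))) := by
  have hS := Surf.K460.FlatExt.shortExact_pullback Hi (seq D p t) (seq_shortExact D p t) hfl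
  let Q : Y.Modules ⥤ Z.Modules := Scheme.Modules.pullback i
  have hQa : Q.Additive := inferInstanceAs (Scheme.Modules.pullback i).Additive
  have hQ : PreservesBinaryBiproducts Q := preservesBinaryBiproducts_of_preservesBiproducts Q
  let β : ∀ A B : X.Modules, Q.obj (pu p A ⊞ pu p B) ≅ F.obj A ⊞ F.obj B := fun A B =>
    Q.mapBiprod (pu p A) (pu p B) ≪≫ biprod.mapIso (θ.app A) (θ.app B)
  have hβ0 : ∀ A B : X.Modules, (β A B).hom = biprod.lift (Q.map biprod.fst) (Q.map biprod.snd) ≫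
      (biprod.mapIso (θ.app A) (θ.app B)).hom := fun A B => rfl
  have hβ1 : ∀ A B : X.Modules, (β A B).hom ≫ biprod.fst = Q.map biprod.fst ≫ θ.hom.app A := fun A B => by
    rw [hβ0, Category.assoc, biprod.mapIso_hom, biprod.map_fst]
    exact biprod.lift_fst_assoc _ _ _
  have hβ2 : ∀ A B : X.Modules, (β A B).hom ≫ biprod.snd = Q.map biprod.snd ≫ θ.hom.app B := fun A B => by
    rw [hβ0, Category.assoc, biprod.mapIso_hom, biprod.map_snd]
    exact biprod.lift_snd_assoc _ _ _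
  have hθ : ∀ {A B : X.Modules} (v : A ⟶ B), Q.map (pm p v) ≫ θ.hom.app B = θ.hom.app A ≫ F.map v := fun v =>
    θ.hom.naturality v
  have comm : Q.map (Phi D p t) ≫ (β D.N₁ D.N₂).hom = (β D.P₁ D.P₂).hom ≫
      mat (F.map D.q₁) (F.map D.a) (F.map D.b ≫ smulHom _ (i.appTop t)) (F.map D.q₂) := by
    apply biprod.hom_ext
    · rw [Category.assoc, hβ1, ← Category.assoc, ← Q.map_comp]
      rw [show Phi D p t ≫ biprod.fst = _ from mat_fst _ _ _ _]
      rw [Q.map_add, Q.map_comp, Q.map_comp, Preadditive.add_comp, Category.assoc, Category.assoc, hθ, hθ,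
        Category.assoc, mat_fst, Preadditive.comp_add, ← Category.assoc, ← Category.assoc, ← Category.assoc,
        ← Category.assoc, hβ1, hβ2]
    · rw [Category.assoc, hβ2, ← Category.assoc, ← Q.map_comp]
      rw [show Phi D p t ≫ biprod.snd = _ from mat_snd _ _ _ _]
      rw [Q.map_add, Q.map_comp, Q.map_comp, Q.map_comp, Preadditive.add_comp, Category.assoc, Category.assoc,
        Category.assoc, hθ, Category.assoc, mat_snd, Preadditive.comp_add, ← Category.assoc (β D.P₁ D.P₂).hom,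
        ← Category.assoc (β D.P₁ D.P₂).hom, hβ1, hβ2]
      congr 1
      · rw [Category.assoc]
        congr 1
        rw [show Q.map (smulHom (pu p D.N₂) t) = smulHom _ (i.appTop t) from
          K709.KerDesc.pullback_map_smulHom i _ _, smulHom_comp, ← Category.assoc, hθ, Category.assoc]
  exact ⟨(IsLimit.conePointUniqueUpToIso hS.fIsKernel (kernelIsKernel (Q.map (Phi D p t)))) ≪≫
    kernel.mapIso _ _ (β D.P₁ D.P₂) (β D.N₁ D.N₂) comm⟩

/-- The fibre where `t = 0`. -/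
theorem nonempty_fibre (i : X ⟶ Y) (hi : i ≫ p = 𝟙 X) (ht : i.appTop t = 0) {T T' : Scheme.{u}} {f : Y ⟶ T}
    {f' : X ⟶ T'} {g : T' ⟶ T} (Hi : IsPullback i f' f g)
    (hfl : FlatMod.IsFlatOver f (pu p D.N₁ ⊞ pu p D.N₂)) :
    Nonempty ((Scheme.Modules.pullback i).obj (E D p t) ≅ (T0 D).X₂) := by
  let θ : Scheme.Modules.pullback p ⋙ Scheme.Modules.pullback i ≅ 𝟭 X.Modules :=
    Scheme.Modules.pullbackComp i p ≪≫ Scheme.Modules.pullbackCongr hi ≪≫ Scheme.Modules.pullbackId X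
  obtain ⟨e⟩ := nonempty_base D p t i Hi hfl (𝟭 _) θ
  obtain ⟨e'⟩ := nonempty_T0_iso D
  have h0 : (𝟭 X.Modules).map D.b ≫ smulHom _ (i.appTop t) = 0 := by
    rw [ht, K709.KerDesc.smulHom_zero, comp_zero]
  rw [h0] at e
  exact ⟨e ≪≫ e'⟩

end K334.Fam
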