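import Groth.Agent.TFCurv.K334.Two
import Groth.Agent.Dcoh.FinLocFree

/-!
# Rank and degree of the members of the family (helper334)
-/

set_option autoImplicit false
universe u

open CategoryTheory CategoryTheory.Limits AlgebraicGeometry TopologicalSpace Opposite

namespace K334.Fam

open K334.Dat K334.NonSplit Groth.Agent Groth.Agent.VarietyA.DegRank K707.Base K707.Deg K707.Slope K707.Semi
open K334.Geo

section num

/-- Pull-back along the identity. -/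
noncomputable def pid {X : Scheme.{u}} (M : X.Modules) : pu (𝟙 X) M ≅ M := (Scheme.Modules.pullbackId X).app M

theorem coh_pid {X : Scheme.{u}} {M : X.Modules} (h : Coh.IsCoh M) : Coh.IsCoh (pu (𝟙 X) M) := coh_iso (pid M).symm h

theorem vb_pid {X : Scheme.{u}} {M : X.Modules} (h : FlatMod.IsFinLocFree M) : FlatMod.IsFinLocFree (pu (𝟙 X) M) :=
  vb_iso (pid M).symm h

variable (k : Type u) [Field k] {X : Scheme.{u}} [X.Over (Spec (CommRingCat.of k))] [IsIntegral X]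
  [IsProper (X ↘ Spec (CommRingCat.of k))] {S G : X.Modules} (D : Dat S G)

/-- Numbers of a direct sum. -/
theorem numbers_biprod {A B : X.Modules} (hA : Coh.IsCoh A) (hB : Coh.IsCoh B) :
    Coh.IsCoh (A ⊞ B) ∧ rk (A ⊞ B) = rk A + rk B ∧ dg k (A ⊞ B) = dg k A + dg k B := by
  have : IsNoetherian X := isNoetherian k
  have hc : Coh.IsCoh (A ⊞ B) := isCoh_biprod hA hB
  have hS0 : (ShortComplex.mk (biprod.inl : A ⟶ A ⊞ B) (biprod.snd : A ⊞ B ⟶ B) biprod.inl_snd).ShortExact :=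
    (ShortComplex.Splitting.ofHasBinaryBiproduct A B).shortExact
  have h1 := rk_add' k _ hS0 hc
  have h2 := dg_add k _ hS0 hA hc hB
  exact ⟨hc, h1, h2⟩

/-- The members of the family over the points of `Spec k`. -/
theorem numbers (C : Crv k X) (t : Γ(X, ⊤)) : FlatMod.IsFinLocFree (E D (𝟙 X) t) ∧
    rk (E D (𝟙 X) t) = rk S + rk G ∧ dg k (E D (𝟙 X) t) = dg k S + dg k G := by
  have : IsNoetherian X := isNoetherian k
  have cP₁ := coh_of_vb D.v₁
  have cP₂ := coh_of_vb D.v₂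
  obtain ⟨hc1, r1, d1⟩ := numbers_biprod k (coh_pid cP₁) (coh_pid cP₂)
  obtain ⟨hc2, r2, d2⟩ := numbers_biprod k (coh_pid D.c₁) (coh_pid D.c₂)
  have hE : Coh.IsCoh (E D (𝟙 X) t) := isCoh D _ t
  have hex := seq_shortExact D (𝟙 X) t
  have r3 := rk_add' k _ hex hc1
  have d3 := dg_add k _ hex hE hc1 hc2
  have cS : Coh.IsCoh S := isCoh_left k _ D.e₁ cP₁ D.c₁.1
  have cG : Coh.IsCoh G := isCoh_left k _ D.e₂ cP₂ D.c₂.1
  have r4 := rk_add' k _ D.e₁ cP₁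
  have d4 := dg_add k _ D.e₁ cS cP₁ D.c₁
  have r5 := rk_add' k _ D.e₂ cP₂
  have d5 := dg_add k _ D.e₂ cG cP₂ D.c₂
  have e1 := rk_iso (pid D.P₁)
  have e2 := rk_iso (pid D.P₂)
  have e3 := rk_iso (pid D.N₁)
  have e4 := rk_iso (pid D.N₂)
  have f1 := dg_iso k (pid D.P₁)
  have f2 := dg_iso k (pid D.P₂)
  have f3 := dg_iso k (pid D.N₁)
  have f4 := dg_iso k (pid D.N₂)
  change rk (pu (𝟙 X) D.P₁ ⊞ pu (𝟙 X) D.P₂) = rk (E D (𝟙 X) t) + rk (pu (𝟙 X) D.N₁ ⊞ pu (𝟙 X) D.N₂) at r3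
  change dg k (pu (𝟙 X) D.P₁ ⊞ pu (𝟙 X) D.P₂) = dg k (E D (𝟙 X) t) + dg k (pu (𝟙 X) D.N₁ ⊞ pu (𝟙 X) D.N₂) at d3
  change rk D.P₁ = rk S + rk D.N₁ at r4
  change rk D.P₂ = rk G + rk D.N₂ at r5
  change dg k D.P₁ = dg k S + dg k D.N₁ at d4
  change dg k D.P₂ = dg k G + dg k D.N₂ at d5
  refine ⟨?_, by omega, by omega⟩
  exact vb_of_mono C (em D (𝟙 X) t) hE (Dcoh.FinLocFree.isFinLocFree_biprod (vb_pid D.v₁) (vb_pid D.v₂))

end num

section base

variable {k : Type u} [Field k] {X : Scheme.{u}} {s : X ⟶ Spec (CommRingCat.of k)} {S G : X.Modules} (D : Dat S G)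

/-- The fibre of the family over `X × A¹` at a `k`-point. -/
theorem exists_fibre (i : X ⟶ YT s) (z : Spec (CommRingCat.of k) ⟶ A1 k)
    (Hi : IsPullback i s (fT s) z) (hi : i ≫ pT s = 𝟙 X) :
    ∃ t : Γ(X, ⊤), Nonempty ((Scheme.Modules.pullback i).obj (E D (pT s) (tY s)) ≅ E D (𝟙 X) t) := by
  refine ⟨i.appTop (tY s), ?_⟩
  have h2 : IsPullback (𝟙 X) s s (𝟙 (Spec (CommRingCat.of k))) := IsPullback.of_horiz_isIso ⟨by simp⟩
  obtain ⟨e⟩ := nonempty_two D (pT s) (𝟙 X) (tY s) (i.appTop (tY s)) i (𝟙 X) Hi h2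
    (isFlatOver_target D (pT s) (fT s) (isPullback_pT s)) (isFlatOver_target D (𝟙 X) s h2)
    (by rw [hi, Category.comp_id]) (by simp)
  exact ⟨e ≪≫ pid _⟩

end base

end K334.Fam
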