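import Groth.Agent.CycB.FinCodimOne
import Mathlib.RingTheory.DedekindDomain.Dvr
import Mathlib.AlgebraicGeometry.AffineSpace

/-!
# The affine line, its origin, the local ring there and the generic point (helper334)
-/

set_option autoImplicit false
universe u

open CategoryTheory CategoryTheory.Limits AlgebraicGeometry TopologicalSpace Opposite

namespace K334.Geo

section sections

variable {B X T Y : Scheme.{u}} {s : X ⟶ B} {q : T ⟶ B} {p : Y ⟶ X} {f : Y ⟶ T} (H : IsPullback p f s q)
  (z : B ⟶ T) (hz : z ≫ q = 𝟙 B)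

/-- The section of the projection to `X` defined by a section `z` of the base. -/
noncomputable def sec : X ⟶ Y := H.lift (𝟙 X) (s ≫ z) (by rw [Category.id_comp, Category.assoc, hz, Category.comp_id])

theorem sec_fst : sec H z hz ≫ p = 𝟙 X := H.lift_fst _ _ _

theorem sec_snd : sec H z hz ≫ f = s ≫ z := H.lift_snd _ _ _

theorem isPullback_sec : IsPullback (sec H z hz) s f z := by
  refine IsPullback.of_right (h₁₂ := p) (h₂₂ := q) (v₁₃ := s) ?_ (sec_snd H z hz) H
  rw [sec_fst, hz]
  exact IsPullback.of_horiz_isIso ⟨by rw [Category.id_comp, Category.comp_id]⟩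

theorem appTop_sec (t : Γ(T, ⊤)) (ht : z.appTop t = 0) : (sec H z hz).appTop (f.appTop t) = 0 := by
  have h4 : (sec H z hz ≫ f).appTop t = (s ≫ z).appTop t := by rw [sec_snd]
  change (sec H z hz).appTop (f.appTop t) = s.appTop (z.appTop t) at h4
  rw [h4, ht, map_zero]

end sections

variable (k : Type u) [Field k]

/-- The affine line. -/
noncomputable abbrev A1 : Scheme.{u} := Spec (CommRingCat.of (Polynomial k))

/-- The structure morphism. -/
noncomputable def q : A1 k ⟶ Spec (CommRingCat.of k) := Spec.map (CommRingCat.ofHom Polynomial.C)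

/-- The origin. -/
noncomputable def zp : Spec (CommRingCat.of k) ⟶ A1 k := Spec.map (CommRingCat.ofHom (Polynomial.evalRingHom 0))

theorem zp_q : zp k ≫ q k = 𝟙 _ := by
  rw [zp, q, ← Spec.map_comp, ← Spec.map_id]
  congr 1
  ext x
  simp

/-- The coordinate. -/
noncomputable def tT : Γ(A1 k, ⊤) := (Scheme.ΓSpecIso (CommRingCat.of (Polynomial k))).inv Polynomial.X

theorem zp_tT : (zp k).appTop (tT k) = 0 := by
  have h := Scheme.ΓSpecIso_inv_naturality (CommRingCat.ofHom (Polynomial.evalRingHom (0 : k)))
  have h1 := congrArg (fun φ => φ.hom (Polynomial.X : Polynomial k)) h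
  simp only [CommRingCat.hom_comp, RingHom.comp_apply] at h1
  change (Spec.map (CommRingCat.ofHom (Polynomial.evalRingHom (0 : k)))).appTop
    ((Scheme.ΓSpecIso (CommRingCat.of (Polynomial k))).inv Polynomial.X) = 0
  refine h1.symm.trans ?_
  have h2 : (CommRingCat.ofHom (Polynomial.evalRingHom (0 : k))).hom Polynomial.X = 0 := by simp
  rw [h2, map_zero]

/-- The origin as a point. -/
noncomputable def s0 : A1 k := zp k (IsLocalRing.closedPoint k)

theorem s0_asIdeal : (s0 k).asIdeal = Ideal.span {Polynomial.X} := by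
  change Ideal.comap (Polynomial.evalRingHom (0 : k)) (IsLocalRing.maximalIdeal k) = _
  rw [IsLocalRing.maximalIdeal_eq_bot, ← RingHom.ker_eq_comap_bot]
  ext x
  rw [RingHom.mem_ker, Ideal.mem_span_singleton, Polynomial.X_dvd_iff, Polynomial.coe_evalRingHom,
    Polynomial.coeff_zero_eq_eval_zero]

instance : IsIntegral (A1 k) := inferInstance

/-- The local ring at the origin. -/
noncomputable abbrev R : Type u := (A1 k).presheaf.stalk (s0 k)

noncomputable instance : Algebra (Polynomial k) (R k) :=
  inferInstanceAs (Algebra (Polynomial k) ((Spec.structureSheaf (Polynomial k)).presheaf.stalk (s0 k)))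

instance : IsLocalization.AtPrime (R k) (s0 k).asIdeal :=
  inferInstanceAs (IsLocalization.AtPrime ((Spec.structureSheaf (Polynomial k)).presheaf.stalk (s0 k)) (s0 k).asIdeal)

instance : IsDomain (R k) := inferInstance

instance : IsDiscreteValuationRing (R k) := by
  refine IsLocalization.AtPrime.isDiscreteValuationRing_of_dedekind_domain (Polynomial k) (P := (s0 k).asIdeal) ?_ (R k)
  rw [s0_asIdeal, Ne, Ideal.span_singleton_eq_bot]
  exact Polynomial.X_ne_zero

/-- The uniformizer. -/
noncomputable def ϖ : R k := (A1 k).presheaf.germ ⊤ (s0 k) trivial (tT k)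

theorem ϖ_eq : ϖ k = algebraMap (Polynomial k) (R k) Polynomial.X := rfl

theorem maximalIdeal_R : IsLocalRing.maximalIdeal (R k) = Ideal.span {ϖ k} := by
  rw [← IsLocalization.AtPrime.map_eq_maximalIdeal (s0 k).asIdeal (R k), s0_asIdeal, Ideal.map_span,
    Set.image_singleton, ϖ_eq]

theorem irreducible_ϖ : Irreducible (ϖ k) :=
  (IsDiscreteValuationRing.irreducible_iff_uniformizer (ϖ k)).mpr (maximalIdeal_R k)

/-- The structure morphism of the local scheme. -/
noncomputable def qR : Spec ((A1 k).presheaf.stalk (s0 k)) ⟶ Spec (CommRingCat.of k) :=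
  (A1 k).fromSpecStalk (s0 k) ≫ q k

/-- The structure map of the local ring. -/
noncomputable def kR : k →+* R k := (algebraMap (Polynomial k) (R k)).comp Polynomial.C

/-- The residue map. -/
noncomputable def ρ : R k →+* k := (Scheme.stalkClosedPointTo (zp k)).hom

/-- The closed point. -/
noncomputable def zR : Spec (CommRingCat.of k) ⟶ Spec ((A1 k).presheaf.stalk (s0 k)) :=
  Spec.map (Scheme.stalkClosedPointTo (zp k))

theorem zR_from : zR k ≫ (A1 k).fromSpecStalk (s0 k) = zp k := Scheme.Spec_stalkClosedPointTo_fromSpecStalk _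

theorem zR_qR : zR k ≫ qR k = 𝟙 _ := by
  rw [qR, ← Category.assoc, zR_from, zp_q]

theorem qR_eq : qR k = Spec.map (CommRingCat.ofHom (kR k)) := by
  rw [qR, q, Spec.fromSpecStalk_eq, ← Spec.map_comp]
  rfl

theorem ρ_kR : (ρ k).comp (kR k) = RingHom.id k := by
  have h := zR_qR k
  rw [zR, qR_eq, ← Spec.map_comp, ← Spec.map_id] at h
  have h1 := Spec.map_injective h
  have h2 := congrArg CommRingCat.Hom.hom h1
  exact h2

theorem ρ_surjective : Function.Surjective (ρ k) := fun c => ⟨kR k c, DFunLike.congr_fun (ρ_kR k) c⟩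

instance : IsLocalHom (ρ k) := inferInstanceAs (IsLocalHom (Scheme.stalkClosedPointTo (zp k)).hom)

theorem ker_ρ : RingHom.ker (ρ k) = IsLocalRing.maximalIdeal (R k) :=
  IsLocalRing.eq_maximalIdeal (RingHom.ker_isMaximal_of_surjective _ (ρ_surjective k))

/-- The residue field of the local ring is `k`. -/
theorem bijective_residue : Function.Bijective ((IsLocalRing.residue (R k)).comp (kR k)) := by
  refine ⟨RingHom.injective _, fun y => ?_⟩
  obtain ⟨r, rfl⟩ := IsLocalRing.residue_surjective y
  refine ⟨ρ k r, ?_⟩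
  rw [RingHom.comp_apply, ← sub_eq_zero, ← map_sub, IsLocalRing.residue_eq_zero_iff, ← ker_ρ, RingHom.mem_ker, map_sub]
  have h := DFunLike.congr_fun (ρ_kR k) (ρ k r)
  simp only [RingHom.comp_apply, RingHom.id_apply] at h
  rw [h, sub_self]

/-- The generic point. -/
noncomputable abbrev η : A1 k := genericPoint (A1 k)

theorem η_spec : η k ⤳ s0 k := (genericPoint_spec (A1 k)).specializes trivial

/-- The function field. -/
noncomputable abbrev K : Type u := (A1 k).residueField (η k)

/-- The structure map of the function field. -/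
noncomputable def RK : (A1 k).presheaf.stalk (s0 k) ⟶ (A1 k).residueField (η k) :=
  (A1 k).presheaf.stalkSpecializes (η_spec k) ≫ (A1 k).residue (η k)

noncomputable instance : Algebra (R k) (K k) := (RK k).hom.toAlgebra

instance : IsFractionRing (R k) (K k) :=
  Groth.Agent.CycB.FinCodimOne.isFractionRing_residueField_of_eq_genericPoint rfl (s0 k) (η_spec k)

theorem RK_from : Spec.map (RK k) ≫ (A1 k).fromSpecStalk (s0 k) = (A1 k).fromSpecResidueField (η k) := by
  rw [RK, Spec.map_comp, Category.assoc, Scheme.SpecMap_stalkSpecializes_fromSpecStalk]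
  rfl

end K334.Geo
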