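import Groth.Agent.TFCurv.K334.FibC
import Groth.Agent.CycB.CohStalk
import Groth.Agent.Props.K593.RankSch

/-!
# The family is locally free (helper334)
-/

set_option autoImplicit false
universe u

open CategoryTheory CategoryTheory.Limits AlgebraicGeometry TopologicalSpace Opposite

namespace K334.Fam

open K334.Dat K334.NonSplit Groth.Agent Groth.Agent.VarietyA.DegRank K707.Base K707.Deg K707.Slope K707.Semi
open K334.Geo

section alg

variable {R : Type u} [CommRing R]

/-- The short complex of modules of a pair of maps. -/
noncomputable abbrev sc {A B M : Type u} [AddCommGroup A] [Module R A] [AddCommGroup B] [Module R B] [AddCommGroup M]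
    [Module R M] (f : A →ₗ[R] B) (g : B →ₗ[R] M) (h : Function.Exact f g) : ShortComplex (ModuleCat.{u} R) :=
  ShortComplex.mk (ModuleCat.ofHom f) (ModuleCat.ofHom g) (by
    ext x
    exact h.apply_apply_eq_zero x)

theorem sc_shortExact {A B M : Type u} [AddCommGroup A] [Module R A] [AddCommGroup B] [Module R B] [AddCommGroup M]
    [Module R M] (f : A →ₗ[R] B) (g : B →ₗ[R] M) (h : Function.Exact f g) (hf : Function.Injective f)
    (hg : Function.Surjective g) : (sc f g h).ShortExact :=
  { exact := (ShortComplex.ShortExact.moduleCat_exact_iff_function_exact (sc f g h)).mpr h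
    mono_f := (ModuleCat.mono_iff_injective _).mpr hf
    epi_g := (ModuleCat.epi_iff_surjective _).mpr hg }

/-- Schanuel's lemma: kernels of surjections from a projective module onto a module of projective dimension at most
one are projective. -/
theorem projective_of_exact {A B K Q M : Type u} [AddCommGroup A] [Module R A] [AddCommGroup B] [Module R B]
    [AddCommGroup M] [Module R M] [AddCommGroup K] [Module R K] [AddCommGroup Q] [Module R Q]
    (f : A →ₗ[R] B) (g : B →ₗ[R] M) (h : Function.Exact f g) (hf : Function.Injective f)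
    (hg : Function.Surjective g)
    (f' : K →ₗ[R] Q) (g' : Q →ₗ[R] M) (h' : Function.Exact f' g') (hf' : Function.Injective f')
    (hg' : Function.Surjective g') [Module.Projective R A] [Module.Projective R B] [Module.Projective R Q] :
    Module.Projective R K := by
  have s1 := sc_shortExact f g h hf hg
  have s2 := sc_shortExact f' g' h' hf' hg'
  have pA : Projective (sc f g h).X₁ := (IsProjective.iff_projective (P := A)).mp inferInstance
  have pB : Projective (sc f g h).X₂ := (IsProjective.iff_projective (P := B)).mp inferInstance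
  have pQ : Projective (sc f' g' h').X₂ := (IsProjective.iff_projective (P := Q)).mp inferInstance
  have h1 := (s1.hasProjectiveDimensionLT_X₃_iff 0 pB).mpr (projective_iff_hasProjectiveDimensionLT_one.mp pA)
  have h2 := (s2.hasProjectiveDimensionLT_X₃_iff 0 pQ).mp h1
  exact (IsProjective.iff_projective (P := K)).mpr (projective_iff_hasProjectiveDimensionLT_one.mpr h2)

end alg

section stalk

open Groth.Agent.CycB.StalkExact

variable {Y : Scheme.{u}}

theorem aux (T T' : ShortComplex Y.Modules) (hT : T.ShortExact) (hT' : T'.ShortExact) (π : T'.X₃ ⟶ T.X₃) (y : Y)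
    (hπ : Function.Bijective (stalkLin π y))
    (h₁ : Module.Projective (Y.presheaf.stalk y) (T.X₁.presheaf.stalk y))
    (h₂ : Module.Projective (Y.presheaf.stalk y) (T.X₂.presheaf.stalk y))
    (h₂' : Module.Projective (Y.presheaf.stalk y) (T'.X₂.presheaf.stalk y)) :
    Module.Projective (Y.presheaf.stalk y) (T'.X₁.presheaf.stalk y) := by
  obtain ⟨a1, a2, a3⟩ := stalkLin_shortExact T hT y
  obtain ⟨b1, b2, b3⟩ := stalkLin_shortExact T' hT' y
  refine projective_of_exact (stalkLin T.f y) (stalkLin T.g y) a2 a1 a3 (stalkLin T'.f y)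
    ((stalkLin π y).comp (stalkLin T'.g y)) ?_ b1 ?_
  · intro x
    rw [← b2 x, LinearMap.comp_apply, map_eq_zero_iff _ hπ.1]
  · exact hπ.2.comp b3

theorem bijective_fst {B₁ B₂ : Y.Modules} (y : Y) (h : Subsingleton (B₂.presheaf.stalk y)) :
    Function.Bijective (stalkLin (biprod.fst : B₁ ⊞ B₂ ⟶ B₁) y) := by
  refine ⟨fun a b hab => stalk_biprod_ext y hab (Subsingleton.elim _ _), stalkLin_surjective _ y⟩

theorem bijective_snd {B₁ B₂ : Y.Modules} (y : Y) (h : Subsingleton (B₁.presheaf.stalk y)) :
    Function.Bijective (stalkLin (biprod.snd : B₁ ⊞ B₂ ⟶ B₂) y) := by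
  refine ⟨fun a b hab => stalk_biprod_ext y (Subsingleton.elim _ _) hab, stalkLin_surjective _ y⟩

theorem projective_stalk {M : Y.Modules} (hM : FlatMod.IsFinLocFree M) (y : Y) :
    Module.Projective (Y.presheaf.stalk y) (M.presheaf.stalk y) := by
  have := _root_.K593.RankSch.free_stalk (K707.Slope.coh_of_vb hM).1 hM y
  infer_instance

variable {X : Scheme.{u}} {S G : X.Modules} (D : Dat S G) (p : Y ⟶ X) [Flat p] (t : Γ(Y, ⊤))

theorem shortExact_pu (T : ShortComplex X.Modules) (hT : T.ShortExact) :
    (T.map (Scheme.Modules.pullback p)).ShortExact := by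
  have := PerfC.FlatExact.preservesFiniteLimits_pullback p
  exact hT.map_of_exact _

omit [Flat p] in
theorem vb_pu {M : X.Modules} (h : FlatMod.IsFinLocFree M) : FlatMod.IsFinLocFree (pu p M) :=
  PerfB.FlatPull.isFinLocFree_pullback p h

/-- The stalks of the family are projective. -/
theorem projective_stalk_E (hS : FlatMod.IsFinLocFree S) (hG : FlatMod.IsFinLocFree G) (y : Y) :
    Module.Projective (Y.presheaf.stalk y) ((E D p t).presheaf.stalk y) := by
  have hB := projective_stalk (Dcoh.FinLocFree.isFinLocFree_biprod (vb_pu p D.v₁) (vb_pu p D.v₂)) y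
  rcases D.disj (p.base y) with h | h
  · exact aux _ (seq D p t) (shortExact_pu p _ D.e₂) (seq_shortExact D p t) biprod.snd y
      (bijective_snd y (PerfC.FlatExact.subsingleton_stalk_pullback p _ y h))
      (projective_stalk (vb_pu p hG) y) (projective_stalk (vb_pu p D.v₂) y) hB
  · exact aux _ (seq D p t) (shortExact_pu p _ D.e₁) (seq_shortExact D p t) biprod.fst y
      (bijective_fst y (PerfC.FlatExact.subsingleton_stalk_pullback p _ y h))
      (projective_stalk (vb_pu p hS) y) (projective_stalk (vb_pu p D.v₁) y) hB

/-- The family is locally free. -/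
theorem isFinLocFreeOfRank_E [IsLocallyNoetherian Y] [IrreducibleSpace Y] (hS : FlatMod.IsFinLocFree S)
    (hG : FlatMod.IsFinLocFree G) : FlatMod.IsFinLocFreeOfRank (rk (E D p t)) (E D p t) := by
  refine isFinLocFreeOfRank_of_free_stalk (isCoh D p t) fun y => ?_
  have := projective_stalk_E D p t hS hG y
  have : Module.Finite (Y.presheaf.stalk y) ((E D p t).presheaf.stalk y) := CycB.CohStalk.finite_stalk _ (isCoh D p t) y
  exact Module.free_of_flat_of_isLocalRing

end stalk

end K334.Fam
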