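import Groth.Agent.VBCurve.K705.Setup
import Groth.Agent.ShStab.K846.EigSheaf
import Groth.Agent.FormalB.ModPow

/-!
# Non-split extensions of non-isomorphic stable modules of the same slope (helper334)

`NS k T`: `T` is a non-split short exact sequence of vector bundles on a curve whose ends are stable, of the same
slope and not isomorphic. Then the middle term is semistable, its endomorphisms are scalars (`k` algebraically
closed), and every proper submodule of the same slope is isomorphic to `T.X₁`.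
-/

set_option autoImplicit false
universe u

open CategoryTheory CategoryTheory.Limits AlgebraicGeometry TopologicalSpace Opposite

namespace K334.NonSplit

open Groth.Agent.VarietyA.DegRank K707.Base K707.Deg K707.Slope K707.Semi K705.Setup

section

variable (k : Type u) [Field k] {X : Scheme.{u}} [X.Over (Spec (CommRingCat.of k))] [IsIntegral X]

/-- Non-split extensions of non-isomorphic stable modules of the same slope. -/
structure NS (T : ShortComplex X.Modules) : Prop where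
  ex : T.ShortExact
  v₁ : FlatMod.IsFinLocFree T.X₁
  v₂ : FlatMod.IsFinLocFree T.X₂
  v₃ : FlatMod.IsFinLocFree T.X₃
  s₁ : St k T.X₁
  s₃ : St k T.X₃
  p₁ : 0 < rk T.X₁
  p₃ : 0 < rk T.X₃
  sl : dg k T.X₁ * rk T.X₃ = dg k T.X₃ * rk T.X₁
  ne : ¬ Nonempty (T.X₁ ≅ T.X₃)
  ns : ¬ ∃ s : T.X₃ ⟶ T.X₂, s ≫ T.g = 𝟙 _

end

variable {k : Type u} [Field k] {X : Scheme.{u}} [X.Over (Spec (CommRingCat.of k))]
  [IsIntegral X] [IsProper (X ↘ (Spec (CommRingCat.of k)))]

/-- Maps between non-isomorphic stable modules of the same slope vanish. -/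
theorem hom_eq_zero (C : Crv k X) {A B : X.Modules} (hA : FlatMod.IsFinLocFree A) (hB : FlatMod.IsFinLocFree B)
    (sA : St k A) (sB : St k B) (sl : dg k A * rk B = dg k B * rk A) (ne : ¬ Nonempty (A ≅ B)) (f : A ⟶ B) :
    f = 0 := by
  by_contra hf
  have := sA.isIso_of_ne_zero C hA sB hB sl.ge f hf
  exact ne ⟨asIso f⟩

section

variable (C : Crv k X) {T : ShortComplex X.Modules} (h : NS k T)

include C h

theorem NS.hom₁₃ (f : T.X₁ ⟶ T.X₃) : f = 0 := hom_eq_zero C h.v₁ h.v₃ h.s₁ h.s₃ h.sl h.ne f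

theorem NS.hom₃₁ (f : T.X₃ ⟶ T.X₁) : f = 0 :=
  hom_eq_zero C h.v₃ h.v₁ h.s₃ h.s₁ h.sl.symm (fun ⟨e⟩ => h.ne ⟨e.symm⟩) f

theorem NS.numbers : rk T.X₂ = rk T.X₁ + rk T.X₃ ∧ dg k T.X₂ = dg k T.X₁ + dg k T.X₃ :=
  ⟨rk_add' k T h.ex (coh_of_vb h.v₂), dg_add k T h.ex (coh_of_vb h.v₁) (coh_of_vb h.v₂) (coh_of_vb h.v₃)⟩

theorem NS.slope₁ : dg k T.X₁ * rk T.X₂ = dg k T.X₂ * rk T.X₁ := by
  obtain ⟨e1, e2⟩ := h.numbers C
  rw [e1, e2]
  push_cast
  linear_combination h.sl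

theorem NS.slope₃ : dg k T.X₃ * rk T.X₂ = dg k T.X₂ * rk T.X₃ := by
  obtain ⟨e1, e2⟩ := h.numbers C
  rw [e1, e2]
  push_cast
  linear_combination -h.sl

/-- The middle term is semistable. -/
theorem NS.ss : SS k T.X₂ :=
  ss_ext C T h.ex h.v₁ h.v₂ h.v₃ h.p₁ h.p₃ (h.slope₁ C) (h.slope₃ C) (h.s₁.ss C h.v₁) (h.s₃.ss C h.v₃)

/-- A subbundle of the slope of a stable module is `0` or everything. -/
theorem eq_of_sub {A F : X.Modules} (hA : FlatMod.IsFinLocFree A) (sA : St k A) (i : F ⟶ A) [Mono i]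
    (hF : FlatMod.IsFinLocFree F) (h0 : 0 < rk F) (hs : dg k A * rk F ≤ dg k F * rk A) : IsIso i := by
  have h1 := rk_le_of_mono C i (coh_of_vb hF) (coh_of_vb hA)
  rcases h1.lt_or_eq with h2 | h2
  · exact absurd (sA F i inferInstance hF h0 h2) (not_lt.mpr hs)
  · refine isIso_of_mono C i (coh_of_vb hF) (coh_of_vb hA) h2.ge ?_
    rw [h2] at hs
    have h3 : (0 : ℤ) < rk A := by
      have : 0 < rk A := h2 ▸ h0
      exact_mod_cast this
    exact le_of_mul_le_mul_right hs h3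

/-- The proper submodules of the same slope are isomorphic to `T.X₁`. -/
theorem NS.sub_iso {F : X.Modules} (i : F ⟶ T.X₂) [Mono i] (hF : FlatMod.IsFinLocFree F) (h0 : 0 < rk F)
    (hr : rk F < rk T.X₂) (hs : dg k F * rk T.X₂ = dg k T.X₂ * rk F) : Nonempty (F ≅ T.X₁) := by
  have hTm := h.ex.mono_f
  obtain ⟨e1, e2⟩ := h.numbers C
  have p₁' : (0 : ℤ) < rk T.X₁ := by exact_mod_cast h.p₁
  have p₃' : (0 : ℤ) < rk T.X₃ := by exact_mod_cast h.p₃
  have h0' : (0 : ℤ) < rk F := by exact_mod_cast h0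
  have e1' : (rk T.X₂ : ℤ) = rk T.X₁ + rk T.X₃ := by exact_mod_cast e1
  have p₂' : (0 : ℤ) < rk T.X₂ := by rw [e1']; positivity
  have s1 := h.slope₁ C
  have s3 := h.slope₃ C
  by_cases hc : i ≫ T.g = 0
  · obtain ⟨l, hl⟩ := h.ex.exact.lift' i hc
    have hlm : Mono l := by
      have : Mono (l ≫ T.f) := by rw [hl]; infer_instance
      exact mono_of_mono l T.f
    have h1 : dg k T.X₁ * rk F ≤ dg k F * rk T.X₁ := by
      have h2 : (dg k T.X₁ * rk F) * rk T.X₂ = (dg k F * rk T.X₁) * rk T.X₂ := by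
        linear_combination (rk F : ℤ) * s1 - (rk T.X₁ : ℤ) * hs
      exact (mul_right_cancel₀ p₂'.ne' h2).le
    have := eq_of_sub C h h.v₁ h.s₁ l hF h0 h1
    exact ⟨asIso l⟩
  · exfalso
    obtain ⟨I, p, j, hp, hj, hpj, hI, hpos, a1, a2, -, -⟩ := exists_factor_pos C (i ≫ T.g) hc (coh_of_vb hF) h.v₃
    have hpos' : (0 : ℤ) < rk I := by exact_mod_cast hpos
    have vK := vb_kernel C (i ≫ T.g) hF (coh_of_vb h.v₃)
    -- the kernel is a submodule of `T.X₂`, so has slope at most `μ`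
    have b1 := h.ss C (kernel (i ≫ T.g)) (kernel.ι (i ≫ T.g) ≫ i) (mono_comp _ _) vK
    have b2 := (h.s₃.ss C h.v₃) I j hj hI
    have a1' : (rk F : ℤ) = rk (kernel (i ≫ T.g)) + rk I := by exact_mod_cast a1
    -- slope of `I` is `μ`
    have c1 : dg k T.X₃ * rk I ≤ dg k I * rk T.X₃ := by
      have d1 : dg k T.X₂ * rk I ≤ dg k I * rk T.X₂ := by
        have d2 : dg k F * rk T.X₂ = dg k (kernel (i ≫ T.g)) * rk T.X₂ + dg k I * rk T.X₂ := by
          rw [a2]; ring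
        have d3 : dg k T.X₂ * rk F = dg k T.X₂ * rk (kernel (i ≫ T.g)) + dg k T.X₂ * rk I := by
          rw [a1']; ring
        linarith
      have d4 : (dg k T.X₃ * rk I) * rk T.X₂ ≤ (dg k I * rk T.X₃) * rk T.X₂ := by
        calc (dg k T.X₃ * rk I) * rk T.X₂ = (dg k T.X₃ * rk T.X₂) * rk I := by ring
          _ = (dg k T.X₂ * rk I) * rk T.X₃ := by rw [s3]; ring
          _ ≤ (dg k I * rk T.X₂) * rk T.X₃ := mul_le_mul_of_nonneg_right d1 p₃'.le
          _ = (dg k I * rk T.X₃) * rk T.X₂ := by ring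
      exact le_of_mul_le_mul_right d4 p₂'
    have hjI : IsIso j := eq_of_sub C h h.v₃ h.s₃ j hI hpos c1
    have rI : rk I = rk T.X₃ := rk_iso (asIso j)
    have dI : dg k I = dg k T.X₃ := dg_iso k (asIso j)
    -- the kernel lies in `T.X₁`
    have hcK : (kernel.ι (i ≫ T.g) ≫ i) ≫ T.g = 0 := by
      rw [Category.assoc, kernel.condition]
    obtain ⟨l, hl⟩ := h.ex.exact.lift' (kernel.ι (i ≫ T.g) ≫ i) hcK
    have hlm : Mono l := by
      have : Mono (l ≫ T.f) := by rw [hl]; infer_instance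
      exact mono_of_mono l T.f
    rcases Nat.eq_zero_or_pos (rk (kernel (i ≫ T.g))) with hz | hz
    · -- `F ≅ T.X₃` splits the sequence
      have hK : IsZero (kernel (i ≫ T.g)) := isZero_of_rk_eq_zero C vK hz
      have hm : Mono (i ≫ T.g) := Preadditive.mono_of_kernel_zero (hK.eq_of_src _ _)
      have he : Epi (i ≫ T.g) := by rw [← hpj]; exact epi_comp _ _
      have hiso : IsIso (i ≫ T.g) := isIso_of_mono_of_epi _
      exact h.ns ⟨inv (i ≫ T.g) ≫ i, by rw [Category.assoc, IsIso.inv_hom_id]⟩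
    · -- the kernel is `T.X₁`
      have d5 : dg k (kernel (i ≫ T.g)) = dg k F - dg k T.X₃ := by rw [a2, dI]; ring
      have d6 : (rk (kernel (i ≫ T.g)) : ℤ) = rk F - rk T.X₃ := by rw [a1', rI]; ring
      have h1 : dg k T.X₁ * rk (kernel (i ≫ T.g)) ≤ dg k (kernel (i ≫ T.g)) * rk T.X₁ := by
        have h2 : (dg k T.X₁ * rk (kernel (i ≫ T.g))) * rk T.X₂ =
            (dg k (kernel (i ≫ T.g)) * rk T.X₁) * rk T.X₂ := by
          rw [d5, d6]
          linear_combination (rk F - rk T.X₃ : ℤ) * s1 - (rk T.X₁ : ℤ) * hs + (rk T.X₁ : ℤ) * s3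
        exact (mul_right_cancel₀ p₂'.ne' h2).le
      have := eq_of_sub C h h.v₁ h.s₁ l vK hz h1
      have h3 : rk (kernel (i ≫ T.g)) = rk T.X₁ := rk_iso (asIso l)
      omega

end

section endo

/-- The endomorphisms of a non-split extension are scalars. -/
theorem NS.endo [IsAlgClosed k] (C : Crv k X) {T : ShortComplex X.Modules} (h : NS k T) (φ : T.X₂ ⟶ T.X₂) :
    ∃ c : k, φ = Formal.smulMod k T.X₂ c := by
  have hTm := h.ex.mono_f
  have hTe := h.ex.epi_g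
  have hlft : LocallyOfFiniteType (X ↘ (Spec (CommRingCat.of k))) := inferInstance
  -- `φ` preserves `T.X₁`
  obtain ⟨φ₁, hφ₁⟩ := h.ex.exact.lift' (T.f ≫ φ) (by
    rw [Category.assoc]
    exact h.hom₁₃ C _)
  have hz₁ : ¬ IsZero T.X₁ := fun hz => by
    have := rk_of_isZero hz
    have := h.p₁
    omega
  obtain ⟨c, hc⟩ := K846.EigSheaf.exists_not_isIso (k := k) T.X₁ (coh_of_vb h.v₁) hz₁ φ₁
  refine ⟨c, ?_⟩
  have h1 : φ₁ - Formal.smulMod k T.X₁ c = 0 := by
    by_contra hne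
    exact hc (h.s₁.isIso_of_ne_zero C h.v₁ h.s₁ h.v₁ le_rfl _ hne)
  have h2 : T.f ≫ (φ - Formal.smulMod k T.X₂ c) = 0 := by
    rw [Preadditive.comp_sub, ← hφ₁, ← Groth.Agent.FormalB.ModPow.smulMod_naturality, ← Preadditive.sub_comp, h1,
      zero_comp]
  obtain ⟨ψ, hψ⟩ : ∃ ψ : T.X₃ ⟶ T.X₂, T.g ≫ ψ = φ - Formal.smulMod k T.X₂ c :=
    ⟨h.ex.exact.desc _ h2, h.ex.exact.g_desc _ _⟩
  have h3 : ψ ≫ T.g = 0 := by
    by_contra hne
    have := h.s₃.isIso_of_ne_zero C h.v₃ h.s₃ h.v₃ le_rfl _ hne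
    exact h.ns ⟨inv (ψ ≫ T.g) ≫ ψ, by rw [Category.assoc, IsIso.inv_hom_id]⟩
  obtain ⟨l, hl⟩ := h.ex.exact.lift' ψ h3
  have h4 : ψ = 0 := by
    rw [← hl, h.hom₃₁ C l, zero_comp]
  rw [h4, comp_zero] at hψ
  exact (sub_eq_zero.mp hψ.symm)

end endo

end K334.NonSplit
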