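import Groth.Agent.TFCurv.K334.Cop
import Groth.Agent.VBCurve.K705.Gen1Iff
import Groth.Agent.Etcore.PicTors
import Groth.Agent.Krr.H495.ExtExist
import Groth.Agent.Krr.H495.Rank
import Groth.Agent.Sga67.TensorOps
import Groth.Agent.S15827

/-!
# Two non-isomorphic stable modules of the same rank and degree (helper334)

On a smooth proper curve of genus at least one over an algebraically closed field, the twist of a bundle `E` of rank
`r` by an `ℓ`-torsion line bundle `R` (`ℓ` prime not dividing `r`, invertible in `k`) is not isomorphic to `E`.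
-/

set_option autoImplicit false
universe u

open CategoryTheory CategoryTheory.Limits AlgebraicGeometry TopologicalSpace Opposite

namespace K334.Twist

open Groth.Agent Groth.Agent.VarietyA.DegRank K707.Base K707.Deg K707.Slope K707.Semi K707.TensL
open Grpsch.PicGrp

section det

variable {X : Scheme.{u}}

/-- If `E ⊗ R ≅ E` then `R ^ r = 1`. -/
theorem pow_eq_one_of_iso {r : ℕ} {E R : X.Modules} (hE : FlatMod.IsFinLocFreeOfRank r E)
    (hR : PicF.IsInvertible R) (e : CohB1.tensorMod E R ≅ E) : mk R hR ^ r = 1 := by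
  have vE : FlatMod.IsFinLocFree E := isFinLocFree_of_rank hE
  obtain ⟨D, -, hD⟩ := Krr.H495.ExtExist.exists_isExtPow r E vE
  obtain ⟨M, -, hM⟩ := Krr.H495.ExtExist.exists_isExtPow r (CohB1.tensorMod E R)
    (vb_iso e.symm vE)
  obtain ⟨a⟩ := S15827.result E R vE (rank_one_iff.mpr hR) r M D hM hD
  obtain ⟨b⟩ := Sga67.TensorOps.nonempty_iso_of_isExtPow e hM hD
  have hD1 : PicF.IsInvertible D := by
    have := Krr.H495.Rank.rank_extPow hE hD
    rw [Nat.choose_self] at this
    exact rank_one_iff.mp this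
  have h1 : mk D hD1 = mk D hD1 * mk R hR ^ r := by
    rw [← mk_tensorPow hR r, mk_mul_mk]
    exact mk_congr (b.symm ≪≫ a)
  exact (mul_eq_left.mp h1.symm)

end det

variable {k : Type u} [Field k] {X : Scheme.{u}} [X.Over (Spec (CommRingCat.of k))]
  [IsIntegral X] [IsProper (X ↘ (Spec (CommRingCat.of k)))]

theorem exists_prime (k : Type u) [Field k] (r : ℕ) (hr : 0 < r) :
    ∃ l : ℕ, l.Prime ∧ r.Coprime l ∧ (l : k) ≠ 0 := by
  obtain ⟨l, hl, hp⟩ := Nat.exists_infinite_primes (r + ringChar k + 1)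
  refine ⟨l, hp, ?_, ?_⟩
  · exact (Nat.Coprime.symm ((Nat.Prime.coprime_iff_not_dvd hp).mpr fun h => by
      have := Nat.le_of_dvd hr h
      omega))
  · intro h
    have h1 : ringChar k ∣ l := ringChar.dvd h
    rcases (Nat.dvd_prime hp).mp h1 with h2 | h2
    · have h3 := CharP.ringChar_ne_one (R := k)
      exact h3 h2
    · omega

/-- A nontrivial torsion class of degree zero whose `r`-th power is nontrivial. -/
theorem exists_torsion [IsAlgClosed k] [Smooth (X ↘ Spec (CommRingCat.of k))]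
    (hdim : topologicalKrullDim X = 1) (hg : 1 ≤ Curv2.genus k X) (r : ℕ) (hr : 0 < r) :
    ∃ (R : X.Modules) (hR : PicF.IsInvertible R), dg k R = 0 ∧ mk R hR ^ r ≠ 1 := by
  have C : Crv k X := Crv.of_smooth hdim
  obtain ⟨l, hl, hrl, hlk⟩ := exists_prime k r hr
  have hc := Etcore.PicTors.card_torsion X (X ↘ Spec (CommRingCat.of k)) hdim rfl l hlk
  have hg' : Curv2.genus k X = Module.finrank k (Coh.HH X (Coh.structureModule X) 1) := rfl
  rw [← hg'] at hc
  have h1 : 1 < Nat.card {c : Pic X // c ^ l = 1} := by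
    rw [hc]
    exact Nat.one_lt_pow (by omega) hl.one_lt
  have hfin : Finite {c : Pic X // c ^ l = 1} := Nat.finite_of_card_ne_zero (by omega)
  have hnt : Nontrivial {c : Pic X // c ^ l = 1} := Finite.one_lt_card_iff_nontrivial.mp h1
  obtain ⟨⟨c, hcl⟩, hne⟩ := exists_ne (⟨1, one_pow l⟩ : {c : Pic X // c ^ l = 1})
  have hc1 : c ≠ 1 := fun h => hne (Subtype.ext h)
  obtain ⟨R, hR, rfl⟩ := exists_mk c
  refine ⟨R, hR, ?_, fun h => ?_⟩
  · obtain ⟨h2, h3⟩ := K708.PtTwist.inv_pow C hR l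
    rw [← mk_tensorPow hR l, mk_eq_one_iff] at hcl
    obtain ⟨e⟩ := hcl
    rw [dg_iso k e, K708.SSH0.dg_structureModule] at h3
    have h4 : (l : ℤ) ≠ 0 := by exact_mod_cast hl.ne_zero
    exact (mul_eq_zero.mp h3.symm).resolve_left h4
  · apply hc1
    have h5 : orderOf (mk R hR) ∣ Nat.gcd r l :=
      Nat.dvd_gcd (orderOf_dvd_of_pow_eq_one h) (orderOf_dvd_of_pow_eq_one hcl)
    rw [hrl.gcd_eq_one, Nat.dvd_one] at h5
    exact orderOf_eq_one_iff.mp h5

/-- A second stable module with the same invariants. -/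
theorem exists_other [IsAlgClosed k] [Smooth (X ↘ Spec (CommRingCat.of k))]
    (hdim : topologicalKrullDim X = 1) (hg : 1 ≤ Curv2.genus k X) {E : X.Modules}
    (hE : FlatMod.IsFinLocFree E) (h0 : 0 < rk E) (hs : St k E) :
    ∃ F : X.Modules, FlatMod.IsFinLocFree F ∧ rk F = rk E ∧ dg k F = dg k E ∧ St k F ∧
      ¬ Nonempty (F ≅ E) := by
  have C : Crv k X := Crv.of_smooth hdim
  obtain ⟨R, hR, hR0, hRr⟩ := exists_torsion (k := k) hdim hg (rk E) h0
  obtain ⟨v, e1, e2⟩ := K705.Gen1Iff.numbers_twist C hR hE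
  refine ⟨(T R).obj E, v, e1, by rw [e2, hR0]; ring, K705.Gen1Iff.st_twist C hR hE hs, ?_⟩
  rintro ⟨e⟩
  exact hRr (pow_eq_one_of_iso (isFinLocFreeOfRank_rk hE) hR e)

end K334.Twist
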