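import Groth.Agent.TFCurv.K334.FamNS
import Groth.Agent.TFCurv.K334.Geo

/-!
# Comparison of the families over the affine line and over its local ring (helper334)
-/

set_option autoImplicit false
universe u

open CategoryTheory CategoryTheory.Limits AlgebraicGeometry TopologicalSpace Opposite

namespace K334.Fam

open K334.Dat K334.NonSplit Groth.Agent Groth.Agent.VarietyA.DegRank K707.Base K707.Deg K707.Slope K707.Semi
open K334.Geo

section two

variable {X Y₁ Y₂ Z T₁ T₂ T₁' T₂' : Scheme.{u}} {S G : X.Modules} (D : Dat S G) (p₁ : Y₁ ⟶ X) (p₂ : Y₂ ⟶ X)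
  (t₁ : Γ(Y₁, ⊤)) (t₂ : Γ(Y₂, ⊤)) (i₁ : Z ⟶ Y₁) (i₂ : Z ⟶ Y₂)
  {f₁ : Y₁ ⟶ T₁} {f₂ : Y₂ ⟶ T₂} {f₁' : Z ⟶ T₁'} {f₂' : Z ⟶ T₂'} {g₁ : T₁' ⟶ T₁} {g₂ : T₂' ⟶ T₂}

/-- Two base changes of the family to the same scheme agree. -/
theorem nonempty_two (H₁ : IsPullback i₁ f₁' f₁ g₁) (H₂ : IsPullback i₂ f₂' f₂ g₂)
    (h₁ : FlatMod.IsFlatOver f₁ (pu p₁ D.N₁ ⊞ pu p₁ D.N₂)) (h₂ : FlatMod.IsFlatOver f₂ (pu p₂ D.N₁ ⊞ pu p₂ D.N₂))
    (hp : i₁ ≫ p₁ = i₂ ≫ p₂) (ht : i₁.appTop t₁ = i₂.appTop t₂) :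
    Nonempty ((Scheme.Modules.pullback i₁).obj (E D p₁ t₁) ≅ (Scheme.Modules.pullback i₂).obj (E D p₂ t₂)) := by
  obtain ⟨e₁⟩ := nonempty_base D p₁ t₁ i₁ H₁ h₁ (Scheme.Modules.pullback (i₁ ≫ p₁)) (Scheme.Modules.pullbackComp i₁ p₁)
  obtain ⟨e₂⟩ := nonempty_base D p₂ t₂ i₂ H₂ h₂ (Scheme.Modules.pullback (i₁ ≫ p₁))
    (Scheme.Modules.pullbackComp i₂ p₂ ≪≫ Scheme.Modules.pullbackCongr hp.symm)
  rw [← ht] at e₂
  exact ⟨e₁ ≪≫ e₂.symm⟩

end two

section models

variable {k : Type u} [Field k] {X : Scheme.{u}} (s : X ⟶ Spec (CommRingCat.of k))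

/-- `X × A¹`. -/
noncomputable abbrev YT : Scheme.{u} := pullback s (q k)
/-- The projection to `X`. -/
noncomputable abbrev pT : YT s ⟶ X := pullback.fst s (q k)
/-- The projection to `A¹`. -/
noncomputable abbrev fT : YT s ⟶ A1 k := pullback.snd s (q k)
/-- The coordinate. -/
noncomputable def tY : Γ(YT s, ⊤) := (fT s).appTop (tT k)

/-- `X × Spec R`. -/
noncomputable abbrev YR : Scheme.{u} := pullback s (qR k)
/-- The projection to `X`. -/
noncomputable abbrev pR : YR s ⟶ X := pullback.fst s (qR k)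
/-- The projection to `Spec R`. -/
noncomputable abbrev fR : YR s ⟶ Spec ((A1 k).presheaf.stalk (s0 k)) := pullback.snd s (qR k)
/-- The uniformizer. -/
noncomputable def tYR : Γ(YR s, ⊤) := (fR s).appTop (((A1 k).fromSpecStalk (s0 k)).appTop (tT k))

/-- The generic fibre. -/
noncomputable abbrev Zη : Scheme.{u} := (fT s).fiber (η k)
/-- The inclusion. -/
noncomputable abbrev jT : Zη s ⟶ YT s := (fT s).fiberι (η k)
/-- The structure morphism. -/
noncomputable abbrev qZ : Zη s ⟶ Spec ((A1 k).residueField (η k)) := (fT s).fiberToSpecResidueField (η k)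

theorem isPullback_jT : IsPullback (jT s) (qZ s) (fT s) ((A1 k).fromSpecResidueField (η k)) :=
  IsPullback.of_hasPullback _ _

theorem isPullback_pT : IsPullback (pT s) (fT s) s (q k) := IsPullback.of_hasPullback _ _

theorem isPullback_pR : IsPullback (pR s) (fR s) s (qR k) := IsPullback.of_hasPullback _ _

theorem base_eq : Spec.map (RK k) ≫ qR k = (A1 k).fromSpecResidueField (η k) ≫ q k := by
  rw [qR, ← Category.assoc, RK_from]

/-- The inclusion of the generic fibre in `X × Spec R`. -/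
noncomputable def jR : Zη s ⟶ YR s :=
  (isPullback_pR s).lift (jT s ≫ pT s) (qZ s ≫ Spec.map (RK k)) (by
    rw [Category.assoc, (isPullback_pT s).w, Category.assoc, base_eq, ← Category.assoc, ← Category.assoc,
      (isPullback_jT s).w])

theorem jR_pR : jR s ≫ pR s = jT s ≫ pT s := (isPullback_pR s).lift_fst _ _ _

theorem jR_fR : jR s ≫ fR s = qZ s ≫ Spec.map (RK k) := (isPullback_pR s).lift_snd _ _ _

theorem isPullback_jR : IsPullback (jR s) (qZ s) (fR s) (Spec.map (RK k)) := by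
  refine IsPullback.of_right (h₁₂ := pR s) (h₂₂ := qR k) (v₁₃ := s) ?_ (jR_fR s) (isPullback_pR s)
  rw [jR_pR, base_eq]
  exact (isPullback_jT s).paste_horiz (isPullback_pT s)

theorem appTop_eq : (jT s).appTop (tY s) = (jR s).appTop (tYR s) := by
  have h4 : (jT s ≫ fT s).appTop (tT k) = ((jR s ≫ fR s) ≫ (A1 k).fromSpecStalk (s0 k)).appTop (tT k) := by
    rw [jR_fR, Category.assoc, RK_from, (isPullback_jT s).w]
  exact h4

variable {S G : X.Modules} (D : Dat S G)

/-- The generic fibres of the two families agree. -/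
theorem nonempty_generic : Nonempty ((Scheme.Modules.pullback (jT s)).obj (E D (pT s) (tY s)) ≅
    (Scheme.Modules.pullback (jR s)).obj (E D (pR s) (tYR s))) :=
  nonempty_two D _ _ _ _ _ _ (isPullback_jT s) (isPullback_jR s)
    (isFlatOver_target D (pT s) (fT s) (isPullback_pT s)) (isFlatOver_target D (pR s) (fR s) (isPullback_pR s))
    (jR_pR s).symm (appTop_eq s)

/-- The closed fibre of `X × Spec R`. -/
noncomputable def iR : X ⟶ YR s := sec (isPullback_pR s) (zR k) (zR_qR k)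

theorem isPullback_iR : IsPullback (iR s) s (fR s) (zR k) := isPullback_sec _ _ _

theorem appTop_iR : (iR s).appTop (tYR s) = 0 := by
  refine appTop_sec (isPullback_pR s) (zR k) (zR_qR k) _ ?_
  have h4 : (zR k ≫ (A1 k).fromSpecStalk (s0 k)).appTop (tT k) = (zp k).appTop (tT k) := by rw [zR_from]
  exact h4.trans (zp_tT k)

theorem nonempty_iR : Nonempty ((Scheme.Modules.pullback (iR s)).obj (E D (pR s) (tYR s)) ≅ (T0 D).X₂) :=
  nonempty_fibre D (pR s) (tYR s) (iR s) (sec_fst _ _ _) (appTop_iR s) (isPullback_iR s)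
    (isFlatOver_target D (pR s) (fR s) (isPullback_pR s))

/-- The fibre of `X × A¹` at the origin. -/
noncomputable def iT : X ⟶ YT s := sec (isPullback_pT s) (zp k) (zp_q k)

theorem isPullback_iT : IsPullback (iT s) s (fT s) (zp k) := isPullback_sec _ _ _

theorem nonempty_iT : Nonempty ((Scheme.Modules.pullback (iT s)).obj (E D (pT s) (tY s)) ≅ (T0 D).X₂) :=
  nonempty_fibre D (pT s) (tY s) (iT s) (sec_fst _ _ _)
    (appTop_sec (isPullback_pT s) (zp k) (zp_q k) _ (zp_tT k)) (isPullback_iT s)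
    (isFlatOver_target D (pT s) (fT s) (isPullback_pT s))

end models

end K334.Fam
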